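import Mathlib
import Cfsg.Agent.S0588

/-!
# Prime graph: odd components and abelian centralizers (helper94)

`Adj G p q` : the adjacency of the prime graph (in the form used by S2224 and S3823); `Conn G` its reflexive transitive
closure.

* `AC G` : the centralizer of every element of prime order not connected to `2` is abelian;
* `HasCC G r` : there is an abelian subgroup `T` with `r ∣ |T|` which contains the centralizers of its nonidentity elements;
* `Good G` : `HasCC G r` for every prime `r ∣ |G|` not connected to `2`;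
* `AC.good`, `Good.ac` : the two conditions are equivalent; `AC.congr`;
* `hasCC_of_real` : **if some element of order `r` (not connected to 2) is inverted by an element of `G` then `HasCC G r`**;
* `HasCC.coprime`, `HasCC.prime_iff` : the subgroup is a Hall subgroup, its primes are those connected with `r`.
-/

set_option autoImplicit false
set_option linter.unusedSectionVars false
set_option linter.unusedVariables false

namespace Cfsg.Agent.H94.PG

open Subgroup

/-- adjacency in the prime graph -/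
def Adj (G : Type*) [Group G] (p q : ℕ) : Prop :=
  p.Prime ∧ q.Prime ∧ p ≠ q ∧ ∃ x y : G, orderOf x = p ∧ orderOf y = q ∧ Commute x y

/-- `q` is joined to `p` by a path -/
def Conn (G : Type*) [Group G] (p q : ℕ) : Prop := Relation.ReflTransGen (Adj G) p q

/-- centralizers of elements of prime order in odd components are abelian -/
def AC (G : Type*) [Group G] : Prop :=
  ∀ x : G, (orderOf x).Prime → ¬ Conn G (orderOf x) 2 → ∀ a b : G, Commute a x → Commute b x → Commute a b

/-- an abelian subgroup of order divisible by `r` containing the centralizers of its nonidentity elements -/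
def HasCC (G : Type*) [Group G] (r : ℕ) : Prop :=
  ∃ T : Subgroup G, r ∣ Nat.card T ∧ (∀ a ∈ T, ∀ b ∈ T, Commute a b) ∧
    ∀ y ∈ T, y ≠ 1 → centralizer ({y} : Set G) ≤ T

/-- every prime divisor not connected to 2 has a `HasCC` subgroup -/
def Good (G : Type*) [Group G] : Prop := ∀ r : ℕ, r.Prime → r ∣ Nat.card G → ¬ Conn G r 2 → HasCC G r

section

variable {G : Type*} [Group G]

theorem Adj.symm {p q : ℕ} (h : Adj G p q) : Adj G q p := by
  obtain ⟨hp, hq, hne, x, y, hx, hy, hc⟩ := h
  exact ⟨hq, hp, hne.symm, y, x, hy, hx, hc.symm⟩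

theorem Conn.symm {p q : ℕ} (h : Conn G p q) : Conn G q p := by
  unfold Conn at *
  induction h with
  | refl => exact Relation.ReflTransGen.refl
  | tail _ hbc ih => exact Relation.ReflTransGen.head hbc.symm ih

theorem Conn.trans {p q r : ℕ} (h : Conn G p q) (h' : Conn G q r) : Conn G p r := Relation.ReflTransGen.trans h h'

theorem Adj.conn {p q : ℕ} (h : Adj G p q) : Conn G p q := Relation.ReflTransGen.single h

/-- commuting elements whose orders are divisible by `p`, `q` -/
theorem adj_of_dvd {p q : ℕ} (hp : p.Prime) (hq : q.Prime) (hne : p ≠ q) {x y : G} (hc : Commute x y)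
    (hx : p ∣ orderOf x) (hy : q ∣ orderOf y) (hx0 : orderOf x ≠ 0) (hy0 : orderOf y ≠ 0) : Adj G p q :=
  ⟨hp, hq, hne, x ^ (orderOf x / p), y ^ (orderOf y / q), orderOf_pow_orderOf_div hx0 hx,
    orderOf_pow_orderOf_div hy0 hy, hc.pow_pow _ _⟩

theorem conn_of_dvd [Finite G] {p q : ℕ} (hp : p.Prime) (hq : q.Prime) {x y : G} (hc : Commute x y)
    (hx : p ∣ orderOf x) (hy : q ∣ orderOf y) : Conn G p q := by
  by_cases hne : p = q
  · rw [hne]; exact Relation.ReflTransGen.refl
  · exact (adj_of_dvd hp hq hne hc hx hy (orderOf_pos x).ne' (orderOf_pos y).ne').conn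

/-- an element whose order is divisible by `p` and `q` -/
theorem conn_of_orderOf [Finite G] {p q : ℕ} (hp : p.Prime) (hq : q.Prime) {x : G}
    (hx : p ∣ orderOf x) (hy : q ∣ orderOf x) : Conn G p q :=
  conn_of_dvd hp hq (Commute.refl x) hx hy

theorem Adj.map {H : Type*} [Group H] (e : G →* H) (he : Function.Injective e) {p q : ℕ} (h : Adj G p q) :
    Adj H p q := by
  obtain ⟨hp, hq, hne, x, y, hx, hy, hc⟩ := h
  exact ⟨hp, hq, hne, e x, e y, by rw [orderOf_injective e he, hx], by rw [orderOf_injective e he, hy], hc.map e⟩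

theorem Conn.map {H : Type*} [Group H] (e : G →* H) (he : Function.Injective e) {p q : ℕ} (h : Conn G p q) :
    Conn H p q := by
  unfold Conn at *
  induction h with
  | refl => exact Relation.ReflTransGen.refl
  | tail _ hbc ih => exact Relation.ReflTransGen.tail ih (hbc.map e he)

theorem conn_congr {H : Type*} [Group H] (e : G ≃* H) {p q : ℕ} : Conn G p q ↔ Conn H p q :=
  ⟨fun h => h.map e.toMonoidHom e.injective, fun h => h.map e.symm.toMonoidHom e.symm.injective⟩

theorem AC.congr {H : Type*} [Group H] (e : G ≃* H) (h : AC G) : AC H := by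
  intro x hx hn a b ha hb
  have ho : orderOf (e.symm x) = orderOf x := orderOf_injective e.symm.toMonoidHom e.symm.injective x
  have h1 := h (e.symm x) (by rw [ho]; exact hx) (by rw [ho, conn_congr e]; exact hn) (e.symm a) (e.symm b)
    (ha.map e.symm) (hb.map e.symm)
  have h2 := h1.map e
  simpa using h2

theorem HasCC.congr {H : Type*} [Group H] (e : G ≃* H) {r : ℕ} (h : HasCC G r) : HasCC H r := by
  obtain ⟨T, h1, h2, h3⟩ := h
  refine ⟨T.map e.toMonoidHom, ?_, ?_, ?_⟩
  · rw [Nat.card_congr (T.equivMapOfInjective e.toMonoidHom e.injective).symm.toEquiv]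
    exact h1
  · rintro _ ⟨a, ha, rfl⟩ _ ⟨b, hb, rfl⟩
    exact (h2 a ha b hb).map e.toMonoidHom
  · rintro _ ⟨y, hy, rfl⟩ hy1 z hz
    have hy1' : y ≠ 1 := fun h => hy1 (by rw [h, map_one])
    rw [mem_centralizer_singleton_iff] at hz
    refine ⟨e.symm z, h3 y hy hy1' ?_, by simp⟩
    rw [mem_centralizer_singleton_iff]
    apply e.injective
    simpa using hz

theorem Good.congr {H : Type*} [Group H] (e : G ≃* H) (h : Good G) : Good H := by
  intro r hr hd hn
  exact (h r hr (by rwa [Nat.card_congr e.toEquiv]) (by rwa [conn_congr e])).congr e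

/-- the general form: any nonidentity element with a prime divisor of its order not connected to 2 -/
theorem AC.of_dvd (h : AC G) {y : G} {q : ℕ} (hq : q.Prime) (hd : q ∣ orderOf y) (h0 : orderOf y ≠ 0)
    (hn : ¬ Conn G q 2) {a b : G} (ha : Commute a y) (hb : Commute b y) : Commute a b := by
  have ho := orderOf_pow_orderOf_div h0 hd
  exact h (y ^ (orderOf y / q)) (by rw [ho]; exact hq) (by rw [ho]; exact hn) a b (ha.pow_right _) (hb.pow_right _)

theorem exists_prime_dvd {y : G} (h1 : y ≠ 1) : ∃ q : ℕ, q.Prime ∧ q ∣ orderOf y :=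
  Nat.exists_prime_and_dvd (fun h => h1 (orderOf_eq_one_iff.1 h))

variable [Finite G]

/-- **the centralizer of an element of an odd component is a CC-subgroup when all of these are abelian** -/
theorem hasCC_of {x : G} (hx : (orderOf x).Prime) (hn : ¬ Conn G (orderOf x) 2)
    (h : ∀ y : G, Commute y x → ∀ q, q.Prime → q ∣ orderOf y → ∀ a b : G, Commute a y → Commute b y → Commute a b) :
    HasCC G (orderOf x) := by
  refine ⟨centralizer ({x} : Set G), ?_, ?_, ?_⟩
  · have hx' : x ∈ centralizer ({x} : Set G) := by rw [mem_centralizer_singleton_iff]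
    have := orderOf_dvd_natCard (⟨x, hx'⟩ : centralizer ({x} : Set G))
    rwa [Subgroup.orderOf_mk] at this
  · intro a ha b hb
    rw [mem_centralizer_singleton_iff] at ha hb
    exact h x (Commute.refl x) _ hx dvd_rfl a b ha hb
  · intro y hy hy1 z hz
    rw [mem_centralizer_singleton_iff] at hy hz ⊢
    obtain ⟨q, hq, hqd⟩ := exists_prime_dvd hy1
    exact h y hy q hq hqd z x hz (Commute.symm hy)

theorem AC.good (h : AC G) : Good G := by
  intro r hr hd hn
  have : Fact r.Prime := ⟨hr⟩
  obtain ⟨x, hx⟩ := exists_prime_orderOf_dvd_card' r hd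
  rw [← hx]
  refine hasCC_of (by rw [hx]; exact hr) (by rw [hx]; exact hn) fun y hy q hq hqd a b ha hb => ?_
  refine h.of_dvd hq hqd (orderOf_pos y).ne' (fun hc => hn ?_) ha hb
  have h1 : Conn G r q := by
    rw [← hx]
    exact conn_of_dvd (by rw [hx]; exact hr) hq (Commute.symm hy) dvd_rfl hqd
  exact h1.trans hc

/-- elements of order `r` are conjugate into the CC-subgroup -/
theorem exists_conj_mem {T : Subgroup G} (hT : ∀ y ∈ T, y ≠ 1 → centralizer ({y} : Set G) ≤ T) {r : ℕ}
    (hr : r.Prime) (hd : r ∣ Nat.card T) {u : G} {k : ℕ} (hu : orderOf u = r ^ k) : ∃ g : G, g * u * g⁻¹ ∈ T := by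
  have hfr : Fact r.Prime := ⟨hr⟩
  have hco := S0588.result T hT
  obtain ⟨Q⟩ : Nonempty (Sylow r T) := inferInstance
  have hQ : IsPGroup r ((Q : Subgroup T).map T.subtype) := Q.isPGroup'.map _
  have hidx : ¬ r ∣ ((Q : Subgroup T).map T.subtype).index := by
    rw [Subgroup.index_map, Subgroup.ker_subtype, sup_bot_eq, Subgroup.range_subtype]
    intro h
    rcases (Nat.Prime.dvd_mul hr).1 h with h | h
    · exact Q.not_dvd_index h
    · exact hr.one_lt.ne' (Nat.dvd_one.1 (hco ▸ Nat.dvd_gcd hd h))
  let S : Sylow r G := hQ.toSylow hidx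
  have hSu : IsPGroup r (zpowers u) := by
    rw [IsPGroup.iff_card]
    exact ⟨k, by rw [Nat.card_zpowers, hu]⟩
  obtain ⟨S', hS'⟩ := hSu.exists_le_sylow
  obtain ⟨g, hg⟩ := MulAction.exists_smul_eq G S' S
  refine ⟨g, ?_⟩
  have h1 : g * u * g⁻¹ ∈ (S : Subgroup G) := by
    rw [← hg, Sylow.coe_subgroup_smul]
    exact ⟨u, hS' (mem_zpowers u), rfl⟩
  have h2 : (S : Subgroup G) = (Q : Subgroup T).map T.subtype := rfl
  rw [h2] at h1
  exact (Subgroup.map_subtype_le _) h1

theorem Good.ac (h : Good G) : AC G := by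
  intro x hx hn a b ha hb
  obtain ⟨T, h1, h2, h3⟩ := h (orderOf x) hx (orderOf_dvd_natCard x) hn
  obtain ⟨g, hg⟩ := exists_conj_mem h3 hx h1 (u := x) (k := 1) (by rw [pow_one])
  have hx1 : x ≠ 1 := by
    rintro rfl
    rw [orderOf_one] at hx
    exact Nat.not_prime_one hx
  have hgx1 : g * x * g⁻¹ ≠ 1 := by
    intro e
    apply hx1
    have : x = g⁻¹ * (g * x * g⁻¹) * g := by group
    rw [this, e]; group
  have key : ∀ c : G, Commute c x → g * c * g⁻¹ ∈ T := by
    intro c hc
    apply h3 _ hg hgx1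
    rw [mem_centralizer_singleton_iff]
    calc g * c * g⁻¹ * (g * x * g⁻¹) = g * (c * x) * g⁻¹ := by group
      _ = g * (x * c) * g⁻¹ := by rw [hc.eq]
      _ = g * x * g⁻¹ * (g * c * g⁻¹) := by group
  have h4 := h2 _ (key a ha) _ (key b hb)
  have h5 : a * b = g⁻¹ * ((g * a * g⁻¹) * (g * b * g⁻¹)) * g := by group
  rw [commute_iff_eq, h5, h4.eq]
  group

/-- **the centralizer of a real element of an odd component is abelian and inverted by an involution** -/
theorem exists_inverting {x : G} (hx : (orderOf x).Prime) (hn : ¬ Conn G (orderOf x) 2)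
    {g : G} (hg : g * x * g⁻¹ = x⁻¹) : ∃ t : G, t * t = 1 ∧ ∀ y : G, Commute y x → t * y * t⁻¹ = y⁻¹ := by
  classical
  set s := orderOf x with hs
  have hs2 : s ≠ 2 := by
    intro h
    apply hn
    rw [h]
    exact Relation.ReflTransGen.refl
  -- elements commuting with `x` have odd order
  have hodd : ∀ y : G, Commute y x → ¬ 2 ∣ orderOf y := by
    intro y hy h2
    apply hn
    exact (conn_of_dvd Nat.prime_two hx hy h2 dvd_rfl).symm
  -- the 2-part of `g`
  obtain ⟨a, m, hm, ho⟩ := Nat.exists_eq_two_pow_mul_odd (orderOf_pos g).ne'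
  have hsq : Commute (g ^ 2) x := by
    rw [commute_iff_eq, pow_two]
    have h1 : g * x = x⁻¹ * g := by rw [← hg]; group
    have h2 : g * x⁻¹ = x * g := by
      have : (g * x * g⁻¹)⁻¹ = x := by rw [hg, inv_inv]
      calc g * x⁻¹ = (g * x * g⁻¹)⁻¹ * g := by group
        _ = x * g := by rw [this]
    calc g * g * x = g * (g * x) := by group
      _ = g * (x⁻¹ * g) := by rw [h1]
      _ = (g * x⁻¹) * g := by group
      _ = x * g * g := by rw [h2]
      _ = x * (g * g) := by group
  set t := g ^ m with ht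
  have htinv : t * x * t⁻¹ = x⁻¹ := by
    obtain ⟨k, hk⟩ := hm
    rw [ht, hk, pow_succ', pow_mul]
    have h1 : Commute ((g ^ 2) ^ k) x := hsq.pow_left k
    calc g * (g ^ 2) ^ k * x * (g * (g ^ 2) ^ k)⁻¹ = g * ((g ^ 2) ^ k * x) * ((g ^ 2) ^ k)⁻¹ * g⁻¹ := by group
      _ = g * (x * (g ^ 2) ^ k) * ((g ^ 2) ^ k)⁻¹ * g⁻¹ := by rw [h1.eq]
      _ = g * x * g⁻¹ := by group
      _ = x⁻¹ := hg
  have htord : orderOf t = 2 ^ a := by
    rw [ht, orderOf_pow, ho, Nat.gcd_mul_left_left, Nat.mul_div_cancel _ hm.pos]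
  have ht2 : Commute (t ^ 2) x := by
    have : t ^ 2 = (g ^ 2) ^ m := by rw [ht, ← pow_mul, ← pow_mul, mul_comm]
    rw [this]
    exact hsq.pow_left m
  have htt : t * t = 1 := by
    rw [← pow_two]
    by_contra hne
    have h1 := hodd _ ht2
    have h2 : orderOf (t ^ 2) ∣ 2 ^ a := by
      rw [← htord]
      exact orderOf_pow_dvd 2
    obtain ⟨j, -, hj⟩ := (Nat.dvd_prime_pow Nat.prime_two).1 h2
    rw [hj] at h1
    have hj0 : j = 0 := by
      by_contra h
      exact h1 (dvd_pow_self 2 h)
    rw [hj0, pow_zero, orderOf_eq_one_iff] at hj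
    exact hne hj
  have htne : t ≠ 1 := by
    intro h1
    rw [h1] at htinv
    have h2 : x * x = 1 := by
      have : x = x⁻¹ := by simpa using htinv
      nth_rw 2 [this]
      simp
    have h3 : orderOf x ∣ 2 := orderOf_dvd_of_pow_eq_one (by rw [pow_two]; exact h2)
    exact hs2 ((Nat.prime_dvd_prime_iff_eq hx Nat.prime_two).1 h3)
  have hto : orderOf t = 2 := orderOf_eq_prime (by rw [pow_two]; exact htt) htne
  have htin : t⁻¹ = t := inv_eq_of_mul_eq_one_right htt
  refine ⟨t, htt, ?_⟩
  -- `t` acts on the centralizer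
  have hpres : ∀ y : G, Commute y x → Commute (t * y * t⁻¹) x := by
    intro y hy
    have h1 : t * x = x⁻¹ * t := by rw [← htinv]; group
    have h2 : t⁻¹ * x = x⁻¹ * t⁻¹ := by rw [htin, h1]
    have h3 : t * x⁻¹ = x * t := by
      have : (t * x * t⁻¹)⁻¹ = x := by rw [htinv, inv_inv]
      calc t * x⁻¹ = (t * x * t⁻¹)⁻¹ * t := by group
        _ = x * t := by rw [this]
    rw [commute_iff_eq]
    calc t * y * t⁻¹ * x = t * y * (t⁻¹ * x) := by group
      _ = t * (y * x⁻¹) * t⁻¹ := by rw [h2]; group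
      _ = t * (x⁻¹ * y) * t⁻¹ := by rw [hy.inv_right.eq]
      _ = (t * x⁻¹) * y * t⁻¹ := by group
      _ = x * t * y * t⁻¹ := by rw [h3]
      _ = x * (t * y * t⁻¹) := by group
  let C := centralizer ({x} : Set G)
  have hC : ∀ y : G, y ∈ C ↔ Commute y x := fun y => by rw [mem_centralizer_singleton_iff]; rfl
  let φ : C →* C :=
    { toFun := fun y => ⟨t * y * t⁻¹, (hC _).2 (hpres _ ((hC _).1 y.2))⟩
      map_one' := by
        apply Subtype.ext
        change t * 1 * t⁻¹ = 1
        group
      map_mul' := by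
        intro a b
        apply Subtype.ext
        change t * (a * b) * t⁻¹ = (t * a * t⁻¹) * (t * b * t⁻¹)
        group }
  have hinv : Function.Involutive φ := by
    intro y
    apply Subtype.ext
    change t * (t * y * t⁻¹) * t⁻¹ = y
    calc t * (t * y * t⁻¹) * t⁻¹ = (t * t) * y * (t * t)⁻¹ := by group
      _ = y := by rw [htt]; group
  have hfpf : MonoidHom.FixedPointFree φ := by
    intro y hy
    by_contra hne
    have h1 : t * (y : G) * t⁻¹ = y := congrArg Subtype.val hy
    have hyx : Commute (y : G) x := (hC _).1 y.2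
    have hyt : Commute (y : G) t := by
      rw [commute_iff_eq]
      calc (y : G) * t = t * (y : G) * t⁻¹ * t := by rw [h1]
        _ = t * y := by group
    have hy1 : (y : G) ≠ 1 := fun h => hne (Subtype.ext h)
    obtain ⟨q, hq, hqd⟩ := exists_prime_dvd hy1
    apply hn
    have c1 : Conn G s q := (conn_of_dvd hq hx hyx hqd dvd_rfl).symm
    have c2 : Conn G q 2 := conn_of_dvd hq Nat.prime_two hyt hqd (by rw [hto])
    exact c1.trans c2
  have hres := hfpf.coe_eq_inv_of_involutive hinv
  intro y hy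
  have h1 := congrFun hres ⟨y, (hC _).2 hy⟩
  exact congrArg Subtype.val h1

theorem comm_of_real {x : G} (hx : (orderOf x).Prime) (hn : ¬ Conn G (orderOf x) 2)
    {g : G} (hg : g * x * g⁻¹ = x⁻¹) {a b : G} (ha : Commute a x) (hb : Commute b x) : Commute a b := by
  obtain ⟨t, htt, ht⟩ := exists_inverting hx hn hg
  have h1 := ht a ha
  have h2 := ht b hb
  have h3 := ht (a * b) (ha.mul_left hb)
  have h4 : t * (a * b) * t⁻¹ = (t * a * t⁻¹) * (t * b * t⁻¹) := by group
  rw [h4, h1, h2, mul_inv_rev] at h3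
  have h5 := congrArg (fun z => z⁻¹) h3
  simp only [mul_inv_rev, inv_inv] at h5
  exact h5.symm

/-- **a real element of order `r` not connected to 2 gives a CC-subgroup** -/
theorem hasCC_of_real {x : G} (hx : (orderOf x).Prime) (hn : ¬ Conn G (orderOf x) 2)
    {g : G} (hg : g * x * g⁻¹ = x⁻¹) : HasCC G (orderOf x) := by
  obtain ⟨t, htt, ht⟩ := exists_inverting hx hn hg
  refine hasCC_of hx hn fun y hy q hq hqd a b ha hb => ?_
  have ho := orderOf_pow_orderOf_div (orderOf_pos y).ne' hqd
  have hz : Commute (y ^ (orderOf y / q)) x := hy.pow_left _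
  refine comm_of_real (x := y ^ (orderOf y / q)) (g := t) (by rw [ho]; exact hq) (fun hc => hn ?_) (ht _ hz)
    (ha.pow_right _) (hb.pow_right _)
  rw [ho] at hc
  exact (conn_of_dvd hx hq hy.symm dvd_rfl hqd).trans hc

theorem good_of_real (h : ∀ x : G, (orderOf x).Prime → ¬ Conn G (orderOf x) 2 → ∃ g : G, g * x * g⁻¹ = x⁻¹) : Good G := by
  intro r hr hd hn
  have : Fact r.Prime := ⟨hr⟩
  obtain ⟨x, hx⟩ := exists_prime_orderOf_dvd_card' r hd
  obtain ⟨g, hg⟩ := h x (by rw [hx]; exact hr) (by rw [hx]; exact hn)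
  rw [← hx]
  exact hasCC_of_real (by rw [hx]; exact hr) (by rw [hx]; exact hn) hg

/-- the primes of the CC-subgroup -/
theorem prime_iff {T : Subgroup G} {r : ℕ} (hr : r.Prime) (hd : r ∣ Nat.card T)
    (hcomm : ∀ a ∈ T, ∀ b ∈ T, Commute a b)
    (hT : ∀ y ∈ T, y ≠ 1 → centralizer ({y} : Set G) ≤ T) {q : ℕ} (hq : q.Prime) :
    q ∣ Nat.card T ↔ q ∣ Nat.card G ∧ Conn G r q := by
  constructor
  · intro h
    refine ⟨h.trans (Subgroup.card_subgroup_dvd_card T), ?_⟩
    have : Fact r.Prime := ⟨hr⟩
    have : Fact q.Prime := ⟨hq⟩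
    obtain ⟨x, hx⟩ := exists_prime_orderOf_dvd_card' r hd
    obtain ⟨y, hy⟩ := exists_prime_orderOf_dvd_card' q h
    exact conn_of_dvd hr hq (hcomm x x.2 y y.2) (by rw [Subgroup.orderOf_coe, hx]) (by rw [Subgroup.orderOf_coe, hy])
  · rintro ⟨-, h⟩
    induction h with
    | refl => exact hd
    | @tail b c _ hbc ih =>
      obtain ⟨hb, hc, hne, u, v, hu, hv, huv⟩ := hbc
      obtain ⟨g, hg⟩ := exists_conj_mem hT hb (ih hb) (u := u) (k := 1) (by rw [pow_one, hu])
      have hu1 : g * u * g⁻¹ ≠ 1 := by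
        intro e
        have : u = 1 := by
          have : u = g⁻¹ * (g * u * g⁻¹) * g := by group
          rw [this, e]; group
        rw [this, orderOf_one] at hu
        rw [← hu] at hb
        exact Nat.not_prime_one hb
      have h1 : g * v * g⁻¹ ∈ T := by
        apply hT _ hg hu1
        rw [mem_centralizer_singleton_iff]
        calc g * v * g⁻¹ * (g * u * g⁻¹) = g * (v * u) * g⁻¹ := by group
          _ = g * (u * v) * g⁻¹ := by rw [huv.eq]
          _ = g * u * g⁻¹ * (g * v * g⁻¹) := by group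
      have h2 := orderOf_dvd_natCard (⟨_, h1⟩ : T)
      rw [Subgroup.orderOf_mk] at h2
      have h3 : orderOf (g * v * g⁻¹) = orderOf v := by
        have := orderOf_injective (MulAut.conj g).toMonoidHom (MulAut.conj g).injective v
        simpa using this
      rwa [h3, hv] at h2

end

end Cfsg.Agent.H94.PG
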