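import Mathlib

/-!
# Sylow 2-subgroups of symmetric and alternating groups (helper94)

The first part (`mem_of_sq`, `eq_of_card`, `set_eq_of_card`, `eq_one_of_normalizer`) repeats proofs of the starting files
`Mrg/Omega/Lie/TwoMain` and `Mrg/Omega/NOThreeL/RRed/TvKind` so that it can be used with a small import closure.

* `set_eq_of_card` : a `P`-invariant subset of `Ω` is determined by its cardinality, `P` a Sylow 2-subgroup of `Sym(Ω)`;
* `eq_one_of_normalizer` : a permutation of odd order which normalises a Sylow 2-subgroup of `Sym(Ω)` is trivial.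
-/

set_option autoImplicit false

namespace Cfsg.Agent.H94.Syl2Sym

open Equiv Subgroup

section gen

variable {G : Type*} [Group G] [Finite G]

/-- `N(K)/K` has odd order if `K` contains a Sylow 2-subgroup. -/
theorem mem_of_sq (P : Sylow 2 G) {K : Subgroup G} (hK : (P : Subgroup G) ≤ K) {w : G}
    (hw : ∀ g ∈ K, w * g * w⁻¹ ∈ K) (hw2 : w * w ∈ K) : w ∈ K := by
  classical
  have : Fact (Nat.Prime 2) := ⟨Nat.prime_two⟩
  have hwN : w ∈ Subgroup.normalizer (K : Set G) := by
    have hle : Subgroup.map (MulAut.conj w).toMonoidHom K ≤ K := by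
      rintro _ ⟨g, hg, rfl⟩
      exact hw g hg
    have hcard : Nat.card (Subgroup.map (MulAut.conj w).toMonoidHom K) = Nat.card K :=
      Nat.card_congr (K.equivMapOfInjective _ (MulAut.conj w).injective).symm.toEquiv
    have heq : Subgroup.map (MulAut.conj w).toMonoidHom K = K :=
      Subgroup.eq_of_le_of_card_ge hle (le_of_eq hcard.symm)
    rw [Subgroup.mem_normalizer_iff]
    intro g
    constructor
    · intro hg; exact hw g hg
    · intro hg
      have h1 : w * g * w⁻¹ ∈ Subgroup.map (MulAut.conj w).toMonoidHom K := by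
        rw [heq]; exact hg
      obtain ⟨y, hy, hyx⟩ := h1
      have : y = g := (MulAut.conj w).injective (by simpa using hyx)
      rw [← this]; exact hy
  set N := Subgroup.normalizer (K : Set G) with hN
  have hKN : K ≤ N := Subgroup.le_normalizer
  have hodd : ¬ 2 ∣ K.relIndex N := by
    intro h2
    apply P.not_dvd_index
    refine h2.trans ?_
    have h3 : K.relIndex N ∣ K.index := ⟨N.index, (Subgroup.relIndex_mul_index hKN).symm⟩
    exact h3.trans (Subgroup.index_dvd_of_le hK)
  have : (K.subgroupOf N).Normal := Subgroup.normal_in_normalizer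
  let x : N ⧸ K.subgroupOf N := QuotientGroup.mk ⟨w, hwN⟩
  have hx2 : x ^ 2 = 1 := by
    rw [pow_two]
    change (QuotientGroup.mk (⟨w, hwN⟩ * ⟨w, hwN⟩ : N) : N ⧸ K.subgroupOf N) = 1
    rw [QuotientGroup.eq_one_iff]
    exact hw2
  have hx : x = 1 := by
    have h1 : orderOf x ∣ 2 := orderOf_dvd_of_pow_eq_one hx2
    have h2 : orderOf x ∣ K.relIndex N := orderOf_dvd_natCard x
    have h3 : orderOf x ∣ Nat.gcd 2 (K.relIndex N) := Nat.dvd_gcd h1 h2
    have h4 : Nat.gcd 2 (K.relIndex N) = 1 :=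
      ((Nat.Prime.coprime_iff_not_dvd Nat.prime_two).2 hodd)
    rw [h4, Nat.dvd_one] at h3
    exact orderOf_eq_one_iff.1 h3
  have := (QuotientGroup.eq_one_iff (N := K.subgroupOf N) (⟨w, hwN⟩ : N)).1 hx
  exact this

end gen

section perm

variable {ι : Type*} [Finite ι]

omit [Finite ι] in
theorem apply_inv (g : Perm ι) (i : ι) : g (g⁻¹ i) = i := by simp


/-- **Lemma 1**: two `P`-invariant `0-1`-functions with the same number of ones are equal. -/
theorem eq_of_card [Fintype ι] (P : Sylow 2 (Perm ι)) {a b : ι → ZMod 2}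
    (ha : ∀ p ∈ P, ∀ i, a (p i) = a i) (hb : ∀ p ∈ P, ∀ i, b (p i) = b i)
    (hc : (Finset.univ.filter fun i => a i = 1).card = (Finset.univ.filter fun i => b i = 1).card) :
    a = b := by
  classical
  have h01 : ∀ x : ZMod 2, x = 0 ∨ x = 1 := by decide
  set A := Finset.univ.filter fun i => a i = 1 with hA
  set B := Finset.univ.filter fun i => b i = 1 with hB
  have hcard : (A \ B).card = (B \ A).card := by
    have h1 := Finset.card_sdiff_add_card_inter A B
    have h2 := Finset.card_sdiff_add_card_inter B A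
    rw [Finset.inter_comm] at h2
    omega
  have memA : ∀ i, i ∈ A ↔ a i = 1 := fun i => by simp [hA]
  have memB : ∀ i, i ∈ B ↔ b i = 1 := fun i => by simp [hB]
  let e : (A \ B : Finset ι) ≃ (B \ A : Finset ι) := Finset.equivOfCardEq hcard
  let w0 : ι → ι := fun i =>
    if h : i ∈ A \ B then (e ⟨i, h⟩ : ι) else if h : i ∈ B \ A then (e.symm ⟨i, h⟩ : ι) else i
  have w0A : ∀ i (h : i ∈ A \ B), w0 i = (e ⟨i, h⟩ : ι) := by
    intro i h
    simp only [w0, dif_pos h]
  have w0B : ∀ i (h : i ∈ B \ A), w0 i = (e.symm ⟨i, h⟩ : ι) := by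
    intro i h
    have h' : i ∉ A \ B := by
      rw [Finset.mem_sdiff] at h ⊢
      tauto
    simp only [w0, dif_neg h', dif_pos h]
  have w0N : ∀ i, i ∉ A \ B → i ∉ B \ A → w0 i = i := by
    intro i h h'
    simp only [w0, dif_neg h, dif_neg h']
  have hinv : Function.Involutive w0 := by
    intro i
    by_cases h1 : i ∈ A \ B
    · rw [w0A i h1, w0B _ (e ⟨i, h1⟩).2]
      simp
    · by_cases h2 : i ∈ B \ A
      · rw [w0B i h2, w0A _ (e.symm ⟨i, h2⟩).2]
        simp
      · rw [w0N i h1 h2, w0N i h1 h2]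
  let w : Perm ι := hinv.toPerm
  have hw : ∀ i, w i = w0 i := fun i => rfl
  have hwa : ∀ i, a (w i) = b i := by
    intro i
    rw [hw]
    by_cases h1 : i ∈ A \ B
    · have h2 := (e ⟨i, h1⟩).2
      rw [← w0A i h1] at h2
      rw [Finset.mem_sdiff, memA, memB] at h1 h2
      rcases h01 (a (w0 i)) with h3 | h3 <;> rcases h01 (b i) with h4 | h4 <;> rw [h3, h4] <;> tauto
    · by_cases h1' : i ∈ B \ A
      · have h2 := (e.symm ⟨i, h1'⟩).2
        rw [← w0B i h1'] at h2
        rw [Finset.mem_sdiff, memA, memB] at h1' h2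
        rw [h2.1, h1'.1]
      · rw [w0N i h1 h1']
        rw [Finset.mem_sdiff, memA, memB] at h1
        rw [Finset.mem_sdiff, memA, memB] at h1'
        rcases h01 (a i) with h3 | h3 <;> rcases h01 (b i) with h4 | h4 <;> rw [h3, h4]
        · exact absurd ⟨h4, by rw [h3]; decide⟩ h1'
        · exact absurd ⟨h3, by rw [h4]; decide⟩ h1
  have hww : ∀ i, w (w i) = i := hinv
  have hwb : ∀ i, b (w i) = a i := by
    intro i
    have := hwa (w i)
    rw [hww] at this
    exact this.symm
  let K : Subgroup (Perm ι) :=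
    { carrier := {g | ∀ i, a (g i) = a i ∧ b (g i) = b i}
      mul_mem' := by
        intro g g' h1 h2 i
        exact ⟨by rw [Perm.mul_apply, (h1 _).1, (h2 _).1], by rw [Perm.mul_apply, (h1 _).2, (h2 _).2]⟩
      one_mem' := fun i => ⟨rfl, rfl⟩
      inv_mem' := by
        intro g h1 i
        have h2 := h1 (g⁻¹ i)
        rw [apply_inv] at h2
        exact ⟨h2.1.symm, h2.2.symm⟩ }
  have hK : (P : Subgroup (Perm ι)) ≤ K := fun g hg i => ⟨ha g hg i, hb g hg i⟩
  have hwi : ∀ i, w⁻¹ i = w i := by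
    intro i
    rw [Perm.inv_eq_iff_eq, hww]
  have hwm : w ∈ K := by
    refine mem_of_sq P hK ?_ ?_
    · intro g hg i
      constructor
      · rw [Perm.mul_apply, Perm.mul_apply, hwa, (hg _).2, hwi, hwb]
      · rw [Perm.mul_apply, Perm.mul_apply, hwb, (hg _).1, hwi, hwa]
    · intro i
      rw [Perm.mul_apply, hww]
      exact ⟨rfl, rfl⟩
  funext i
  have := (hwm i).1
  rw [hwa] at this
  exact this.symm

end perm

section norm

universe u

variable {Ω : Type u}

theorem inv_self (g : Perm Ω) (i : Ω) : g⁻¹ (g i) = i := by simp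

/-- a `P`-invariant subset is determined by its cardinality -/
theorem set_eq_of_card [Finite Ω] (P : Sylow 2 (Perm Ω)) {A B : Set Ω} (hA : ∀ p ∈ P, ∀ i, p i ∈ A ↔ i ∈ A)
    (hB : ∀ p ∈ P, ∀ i, p i ∈ B ↔ i ∈ B) (hc : A.ncard = B.ncard) : A = B := by
  classical
  have := Fintype.ofFinite Ω
  have key : ∀ C : Set Ω, (Finset.univ.filter fun i => (if i ∈ C then (1 : ZMod 2) else 0) = 1).card = C.ncard := by
    intro C
    rw [← Set.ncard_coe_finset]
    congr 1
    ext i
    simp
  have h := eq_of_card P (a := fun i => if i ∈ A then 1 else 0) (b := fun i => if i ∈ B then 1 else 0)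
    (fun p hp i => by simp only [hA p hp i]) (fun p hp i => by simp only [hB p hp i]) (by rw [key, key, hc])
  ext i
  have h1 := congrFun h i
  by_cases h2 : i ∈ A <;> by_cases h3 : i ∈ B <;> simp_all

/-- elements of odd prime order -/
theorem eq_one_of_pow {r : ℕ} (hr : r.Prime) (hr2 : r ≠ 2) : ∀ n : ℕ, ∀ (Ω : Type u) [Finite Ω],
    Nat.card Ω = n → ∀ (P : Sylow 2 (Perm Ω)) (σ : Perm Ω), σ ^ r = 1 → σ • P = P → σ = 1 := by
  classical
  intro n
  induction n using Nat.strong_induction_on with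
  | _ n ih =>
    intro Ω _ hn P σ hσ hP
    rcases isEmpty_or_nonempty Ω with hE | ⟨⟨δ⟩⟩
    · exact Subsingleton.elim _ _
    let β := {x : Ω // x ≠ δ}
    let f : Perm β →* Perm Ω := Perm.ofSubtype
    have hf : Function.Injective f := Perm.ofSubtype_injective
    obtain ⟨R₀⟩ : Nonempty (Sylow 2 (Perm β)) := inferInstance
    obtain ⟨Q, hQ⟩ := (R₀.isPGroup'.map f).exists_le_sylow
    have hQR : (Q : Subgroup (Perm Ω)).comap f = R₀ :=
      R₀.is_maximal' (Q.isPGroup'.comap_of_injective f hf) (map_le_iff_le_comap.1 hQ)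
    -- `σ` fixes `δ`
    have key : ∀ τ : Perm Ω, τ ^ r = 1 → τ • Q = Q → τ δ = δ → τ = 1 := by
      intro τ hτ hτQ hτδ
      have hsub : ∀ x, τ x ≠ δ ↔ x ≠ δ := by
        intro x
        rw [not_iff_not]
        constructor
        · intro h
          rw [← hτδ] at h
          exact τ.injective h
        · rintro rfl
          exact hτδ
      let ρ : Perm β := τ.subtypePerm hsub
      have hfρ : f ρ = τ := Perm.ofSubtype_subtypePerm hsub fun x hx h => hx (by rw [h, hτδ])
      have h1 : ρ ^ r = 1 := by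
        apply hf
        rw [map_pow, hfρ, hτ, map_one]
      have h2 : ρ • R₀ = R₀ := by
        rw [Sylow.smul_eq_iff_mem_normalizer] at hτQ ⊢
        refine mem_normalizer_iff.2 fun x => ?_
        have h3 := (mem_normalizer_iff.1 hτQ) (f x)
        have h4 : ∀ y : Perm β, y ∈ (R₀ : Subgroup (Perm β)) ↔ f y ∈ (Q : Subgroup (Perm Ω)) := by
          intro y
          rw [← hQR, mem_comap]
        change x ∈ (R₀ : Subgroup (Perm β)) ↔ ρ * x * ρ⁻¹ ∈ (R₀ : Subgroup (Perm β))
        rw [h4, h4, map_mul, map_mul, map_inv, hfρ]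
        exact h3
      have h3 : Nat.card β < n := by
        rw [← hn]
        exact Finite.card_subtype_lt (x := δ) (by simp)
      have h5 : ρ = 1 := ih _ h3 β rfl R₀ ρ h1 h2
      rw [← hfρ, h5, map_one]
    -- WLOG `P = Q`
    obtain ⟨g, hg⟩ := MulAction.exists_smul_eq (Perm Ω) P Q
    set σ' : Perm Ω := g * σ * g⁻¹ with hσ'
    have e1 : σ' ^ r = 1 := by rw [hσ', conj_pow, hσ, mul_one, mul_inv_cancel]
    have e2 : σ' • Q = Q := by
      rw [← hg, hσ', mul_smul, mul_smul, inv_smul_smul, hP]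
    -- the orbit
    let O : Set Ω := {x | ∃ q ∈ (Q : Subgroup (Perm Ω)), x = q δ}
    have hO : ∀ q ∈ Q, ∀ i, q i ∈ O ↔ i ∈ O := by
      intro q hq i
      constructor
      · rintro ⟨p, hp, h⟩
        refine ⟨q⁻¹ * p, mul_mem (inv_mem hq) hp, ?_⟩
        rw [Perm.mul_apply, ← h, inv_self]
      · rintro ⟨p, hp, rfl⟩
        exact ⟨q * p, mul_mem hq hp, rfl⟩
    have hN := (mem_normalizer_iff.1 ((Sylow.smul_eq_iff_mem_normalizer).1 e2))
    have hO' : ∀ q ∈ Q, ∀ i, q i ∈ σ' '' O ↔ i ∈ σ' '' O := by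
      have aux : ∀ q ∈ Q, ∀ i, i ∈ σ' '' O → q i ∈ σ' '' O := by
        rintro q hq _ ⟨x, hx, rfl⟩
        have h1 : σ'⁻¹ * q * σ' ∈ (Q : Subgroup (Perm Ω)) := by
          rw [hN]
          have e : σ' * (σ'⁻¹ * q * σ') * σ'⁻¹ = q := by group
          rw [e]
          exact hq
        refine ⟨(σ'⁻¹ * q * σ') x, (hO _ h1 x).2 hx, ?_⟩
        rw [← Perm.mul_apply]
        have e : σ' * (σ'⁻¹ * q * σ') = q * σ' := by group
        rw [e, Perm.mul_apply]
      intro q hq i
      refine ⟨fun h => ?_, aux q hq i⟩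
      have := aux q⁻¹ (inv_mem hq) _ h
      rwa [inv_self] at this
    have hOO : σ' '' O = O := set_eq_of_card Q hO' hO (Set.ncard_image_of_injective _ σ'.injective)
    -- a fixed point on the orbit
    have hcard : ∃ k, Nat.card O = 2 ^ k := by
      have h1 := Q.isPGroup'.card_orbit δ
      obtain ⟨k, hk⟩ := h1
      refine ⟨k, ?_⟩
      rw [← hk]
      congr 2
      ext x
      constructor
      · rintro ⟨q, hq, rfl⟩
        exact ⟨⟨q, hq⟩, rfl⟩
      · rintro ⟨⟨q, hq⟩, rfl⟩
        exact ⟨q, hq, rfl⟩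
    have hmem : ∀ x, σ' x ∈ O ↔ x ∈ O := by
      intro x
      constructor
      · intro h
        rw [← hOO] at h
        obtain ⟨y, hy, hyx⟩ := h
        rwa [← σ'.injective hyx]
      · intro h
        rw [← hOO]
        exact ⟨x, h, rfl⟩
    have : Fact r.Prime := ⟨hr⟩
    have := Fintype.ofFinite O
    obtain ⟨⟨a, ha⟩, hfix⟩ := Perm.exists_fixed_point_of_prime (p := r) (n := 1) (α := O)
      (σ := σ'.subtypePerm hmem) (by
        rw [← Nat.card_eq_fintype_card]
        obtain ⟨k, hk⟩ := hcard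
        rw [hk]
        intro h
        exact hr2 ((Nat.prime_dvd_prime_iff_eq hr Nat.prime_two).1 (hr.dvd_of_dvd_pow h))) (by
        rw [pow_one]
        ext x
        rw [Perm.subtypePerm_pow]
        simp [e1])
    have hfa : σ' a = a := congrArg Subtype.val hfix
    obtain ⟨q, hq, rfl⟩ := ha
    have hqQ : q • Q = Q := (Sylow.smul_eq_iff_mem_normalizer).2 (le_normalizer hq)
    have h6 := key (q⁻¹ * σ' * q) (by
      have := conj_pow (i := r) (a := q⁻¹) (b := σ')
      rw [inv_inv] at this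
      rw [this, e1, mul_one, inv_mul_cancel]) (by
      rw [mul_smul, mul_smul, hqQ, e2, inv_smul_eq_iff, hqQ]) (by
      rw [Perm.mul_apply, Perm.mul_apply, hfa, inv_self])
    have h7 : σ' = 1 := by
      have : σ' = q * (q⁻¹ * σ' * q) * q⁻¹ := by group
      rw [this, h6, mul_one, mul_inv_cancel]
    have : σ = g⁻¹ * σ' * g := by rw [hσ']; group
    rw [this, h7, mul_one, inv_mul_cancel]

/-- **A permutation of odd order which normalises a Sylow 2-subgroup of `Sym(Ω)` is trivial.** -/
theorem eq_one_of_normalizer [Finite Ω] (P : Sylow 2 (Perm Ω)) {σ : Perm Ω} (ho : Odd (orderOf σ))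
    (hn : σ ∈ normalizer ((P : Subgroup (Perm Ω)) : Set (Perm Ω))) : σ = 1 := by
  by_contra h1
  have h2 : orderOf σ ≠ 1 := fun h => h1 (orderOf_eq_one_iff.1 h)
  obtain ⟨r, hr, hrd⟩ := Nat.exists_prime_and_dvd h2
  have h0 : orderOf σ ≠ 0 := (orderOf_pos σ).ne'
  have hr2 : r ≠ 2 := by
    rintro rfl
    exact Nat.not_even_iff_odd.2 ho (even_iff_two_dvd.2 hrd)
  have h3 := orderOf_pow_orderOf_div h0 hrd
  have h4 : σ ^ (orderOf σ / r) = 1 := eq_one_of_pow hr hr2 _ Ω rfl P _
    (by
      have := pow_orderOf_eq_one (σ ^ (orderOf σ / r))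
      rwa [h3] at this)
    ((Sylow.smul_eq_iff_mem_normalizer).2 (pow_mem hn _))
  rw [h4, orderOf_one] at h3
  exact hr.one_lt.ne h3

end norm

end Cfsg.Agent.H94.Syl2Sym
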