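import Cfsg.Agent.H94.NBC
import Cfsg.Agent.BpSpor.ThThree
import Cfsg.Agent.KFacts.Th.Main
import Cfsg.Agent.MonsterX.ThOneClass
import Cfsg.Agent.Lib.KleinGen
import Cfsg.Agent.S1700

/-!
# `Th` has more than one 3-block (helper94, for the hub S5003)

`four_cent` : `R` normalized by `H`, `s, e ∈ H` commuting involutions, `e` and `s e` conjugate to `s` in `H`, `e` in a
2-subgroup `E` normalized by `C_H(s)`; `|R|` odd. Then `s` centralizes `R`. For `Th`: `H = C(x)`, `x` of order 3 of type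
`(3, 3)` (so `C(x) = 3 × G2(3)`), `E = O_2(C_H(s))` of order 32. So `C(x)` is not of characteristic 3.
-/

set_option autoImplicit false

namespace Cfsg.Agent.H94.NBC

open Cfsg Subgroup
open Cfsg.Agent Cfsg.Agent.H7.NBp Cfsg.Agent.H718.NBIH

/-- the centralizer in `R` of a conjugate, `R` normal -/
theorem card_inf_conj {G : Type*} [Group G] {H R : Subgroup G} (hRn : ∀ c ∈ H, ∀ z ∈ R, c * z * c⁻¹ ∈ R)
    {g e s : G} (hg : g ∈ H) (hge : g * e * g⁻¹ = s) :
    Nat.card ↥(R ⊓ centralizer ({e} : Set G)) = Nat.card ↥(R ⊓ centralizer ({s} : Set G)) := by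
  have h1 : (R ⊓ centralizer ({e} : Set G)).map (MulAut.conj g).toMonoidHom =
      R ⊓ centralizer ({s} : Set G) := by
    ext w
    constructor
    · rintro ⟨a, ⟨haR, ha⟩, rfl⟩
      refine ⟨hRn g hg a haR, ?_⟩
      have ha' : a * e = e * a := mem_centralizer_singleton_iff.1 ha
      rw [← hge]
      refine mem_centralizer_singleton_iff.2 ?_
      change g * a * g⁻¹ * (g * e * g⁻¹) = g * e * g⁻¹ * (g * a * g⁻¹)
      calc g * a * g⁻¹ * (g * e * g⁻¹) = g * (a * e) * g⁻¹ := by group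
        _ = g * (e * a) * g⁻¹ := by rw [ha']
        _ = g * e * g⁻¹ * (g * a * g⁻¹) := by group
    · rintro ⟨hwR, hw⟩
      have hw' : w * s = s * w := mem_centralizer_singleton_iff.1 hw
      refine ⟨g⁻¹ * w * g, ⟨?_, ?_⟩, ?_⟩
      · have := hRn g⁻¹ (inv_mem hg) w hwR
        rwa [inv_inv] at this
      · refine mem_centralizer_singleton_iff.2 ?_
        have he : e = g⁻¹ * s * g := by rw [← hge]; group
        rw [he]
        calc g⁻¹ * w * g * (g⁻¹ * s * g) = g⁻¹ * (w * s) * g := by group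
          _ = g⁻¹ * (s * w) * g := by rw [hw']
          _ = g⁻¹ * s * g * (g⁻¹ * w * g) := by group
      · change g * (g⁻¹ * w * g) * g⁻¹ = w
        group
  rw [← h1]
  exact (card_map_of_injective (MulAut.conj g).injective).symm

theorem four_cent {G : Type*} [Group G] [Finite G] {H R E : Subgroup G} (hodd : Odd (Nat.card R))
    (hRn : ∀ c ∈ H, ∀ z ∈ R, c * z * c⁻¹ ∈ R) (hRH : R ≤ H) (hE : IsPGroup 2 E) {s e : G}
    (hs : s ∈ H) (he : e ∈ H) (hss : s * s = 1) (hee : e * e = 1) (hse : s * e = e * s)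
    (heE : e ∈ E) (hsE : s ∈ E) (hEn : ∀ c ∈ H, c * s = s * c → ∀ z ∈ E, c * z * c⁻¹ ∈ E)
    (h1 : ∃ g ∈ H, g * e * g⁻¹ = s) (h2 : ∃ g ∈ H, g * (s * e) * g⁻¹ = s) :
    ∀ z ∈ R, s * z = z * s := by
  obtain ⟨g1, hg1, h1⟩ := h1
  obtain ⟨g2, hg2, h2⟩ := h2
  have hRE : ∀ z, z ∈ R → z ∈ E → z = 1 := by
    intro z hzR hzE
    obtain ⟨k, hk⟩ := hE ⟨z, hzE⟩
    have hk' : z ^ 2 ^ k = 1 := congrArg Subtype.val hk
    have h3 : orderOf z ∣ 2 ^ k := orderOf_dvd_of_pow_eq_one hk'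
    have h4 : orderOf z ∣ Nat.card R := by
      rw [← Subgroup.orderOf_mk z hzR]
      exact orderOf_dvd_natCard _
    have h5 : Nat.Coprime (2 ^ k) (Nat.card R) := Nat.Coprime.pow_left k (Nat.coprime_two_left.2 hodd)
    exact orderOf_eq_one_iff.1 (Nat.eq_one_of_dvd_coprimes h5 h3 h4)
  -- `C_R(s)` centralizes `E`
  have key : ∀ a ∈ R ⊓ centralizer ({s} : Set G), ∀ f ∈ E, f ∈ H → a * f = f * a := by
    rintro a ⟨haR, ha⟩ f hf hfH
    have ha' : a * s = s * a := mem_centralizer_singleton_iff.1 ha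
    have h3 : a * f * a⁻¹ * f⁻¹ ∈ E := mul_mem (hEn a (hRH haR) ha' f hf) (inv_mem hf)
    have h4 : a * f * a⁻¹ * f⁻¹ ∈ R := by
      have h5 : a * (f * a⁻¹ * f⁻¹) ∈ R := mul_mem haR (hRn f hfH _ (inv_mem haR))
      have h6 : a * (f * a⁻¹ * f⁻¹) = a * f * a⁻¹ * f⁻¹ := by group
      rwa [h6] at h5
    have h5 := hRE _ h4 h3
    calc a * f = a * f * a⁻¹ * f⁻¹ * (f * a) := by group
      _ = f * a := by rw [h5, one_mul]
  set A := R ⊓ centralizer ({s} : Set G) with hA
  have hAe : R ⊓ centralizer ({e} : Set G) = A := by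
    symm
    refine eq_of_le_of_card_ge ?_ (by rw [card_inf_conj hRn hg1 h1])
    intro a ha
    exact ⟨ha.1, mem_centralizer_singleton_iff.2 (key a ha e heE he)⟩
  have hAse : R ⊓ centralizer ({s * e} : Set G) = A := by
    symm
    refine eq_of_le_of_card_ge ?_ (by rw [card_inf_conj hRn hg2 h2])
    intro a ha
    exact ⟨ha.1, mem_centralizer_singleton_iff.2 (key a ha (s * e) (mul_mem hsE heE) (mul_mem hs he))⟩
  have h3 : R ≤ A := Lib.KleinGen.le_of_klein R A hodd s e hss hee hse (fun z hz => hRn s hs z hz)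
    (fun z hz => hRn e he z hz) le_rfl hAe.le hAse.le
  intro z hz
  exact (mem_centralizer_singleton_iff.1 (h3 hz).2).symm

section

open Cfsg.Agent.Th.Base Cfsg.Agent.Th.Word Cfsg.Agent.Th.RelWords Cfsg.Agent.Th.PermTab
  Cfsg.Agent.Th.KOracle Cfsg.Agent.Th.KPerm Cfsg.Agent.Th.NineAct Cfsg.Agent.Th.CStruct
  Cfsg.Agent.Th.COracleDef Cfsg.Agent.Th.COracleSound
open Cfsg.Agent.KFacts.Th.Mask Cfsg.Agent.KFacts.Th.Struct
open Cfsg.Agent.CpAutTh.Data Cfsg.Agent.CpAutTh.Alt Cfsg.Agent.CpAutTh.RankOne Cfsg.Agent.CpAutTh.Local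
  Cfsg.Agent.CpAutTh.Mid Cfsg.Agent.CpAutTh.ThreePerm Cfsg.Agent.CpAutTh.ThreeE

universe u

variable {G : Type u} [Group G] {γ : ℕ → G} (h : Ctx γ)
  (hone : ∀ u : G, orderOf u = 2 → ∃ g : G, g * u * g⁻¹ = γ 1)
include h hone

/-- the involutions of `C(X33)` are conjugate in `C(X33)` -/
theorem th_conj (u : G) (hu : u ∈ centralizer ({ev γ X33} : Set G)) (hou : orderOf u = 2) :
    ∃ g ∈ centralizer ({ev γ X33} : Set G), g * u * g⁻¹ = γ 1 := by
  have hfin := h.fin
  obtain ⟨f, F⟩ := Cfsg.Agent.CpAutTh.Local.exists_epi h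
  have hox : orderOf (ev γ X33) = 3 := by
    have := o33 h F
    rwa [Subgroup.orderOf_mk] at this
  have hEH : ∀ q ∈ E γ, q ∈ centralizer ({ev γ X33} : Set G) := fun q hq => hq.2
  have hc0 : cc γ 0 ∈ E γ := c_mem_E h (Or.inl rfl)
  have hc0a : cc γ 0 * γ 1 = γ 1 * cc γ 0 := (h.Q_comm (E_le h hc0)).symm
  have hc02 : orderOf (cc γ 0) = 2 := by
    refine orderOf_eq_prime (by rw [pow_two]; exact h.data.cc 0) ?_
    intro h1
    have h2 := mask_c h.data 0
    rw [h1] at h2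
    exact absurd (unique h.data h2 (mask_one h.data)) (by decide +kernel)
  have hc0ne : cc γ 0 ≠ γ 1 := by
    intro h1
    have h2 := mask_c h.data 0
    rw [h1] at h2
    exact absurd (unique h.data h2 (mask_a h.data)) (by decide +kernel)
  have hsx : orderOf (⟨γ 1, mem_centralizer_singleton_iff.2 (h.mem_C.1 (ev_mem_sub c33)).symm⟩ :
      ↥(centralizer ({ev γ X33} : Set G))) = 2 := by
    rw [Subgroup.orderOf_mk]
    exact orderOf_eq_prime (by rw [pow_two]; exact h.aa) h.a1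
  rw [mem_centralizer_singleton_iff] at hu
  obtain ⟨g, h1, h2⟩ := exists_pair h hone hox hou hu
    (P := fun z => z = ev γ X3 ∨ z = ev γ X33 ∨ z = ev γ X333) (fun y hy => by
      obtain ⟨c, hc⟩ := exists_rep_three h F hy
      refine ⟨c, ?_⟩
      rcases hc with hc | hc | hc
      · exact Or.inl (congrArg Subtype.val hc)
      · exact Or.inr (Or.inl (congrArg Subtype.val hc))
      · exact Or.inr (Or.inr (congrArg Subtype.val hc)))
  have key : (∀ w : G, orderOf w = 2 → w * γ 1 = γ 1 * w → w * (g * ev γ X33 * g⁻¹) = g * ev γ X33 * g⁻¹ * w →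
      w = γ 1) → False := by
    intro hinv
    have h3 := unique_of_pair h1 rfl hinv
    have h4 := (CpAutTh.RankOne.uInv_of_unique (H := ↥(centralizer ({ev γ X33} : Set G)))
      (s := ⟨u, mem_centralizer_singleton_iff.2 hu⟩) (by rw [Subgroup.orderOf_mk, hou]) (by
        rintro ⟨v, hv⟩ hov hvu
        apply Subtype.ext
        rw [Subgroup.orderOf_mk] at hov
        exact h3 v hov (congrArg Subtype.val hvu) (mem_centralizer_singleton_iff.1 hv))).1
    have h5 := h4 ⟨γ 1, mem_centralizer_singleton_iff.2 (h.mem_C.1 (ev_mem_sub c33)).symm⟩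
      ⟨cc γ 0, hEH _ hc0⟩ hsx (by rw [Subgroup.orderOf_mk, hc02]) (Subtype.ext hc0a.symm)
    exact hc0ne (congrArg Subtype.val h5).symm
  rcases h2 with h2 | h2 | h2
  · exact (key (fun w hw hwa hwx => inv_three h F hw hwa (by rwa [h2] at hwx))).elim
  · have hg : g ∈ centralizer ({ev γ X33} : Set G) := by
      rw [mem_centralizer_singleton_iff]
      exact mul_inv_eq_iff_eq_mul.1 h2
    exact ⟨g, hg, h1⟩
  · exact (key (fun w hw hwa hwx => inv_triple h F hw hwa (by rwa [h2] at hwx))).elim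

/-- **`C(X33)` is not of characteristic 3** -/
theorem nb_th_aux [Finite G] [IsSimpleGroup G] (hna : ¬ IsMulCommutative G) (ih : IH 3 (Nat.card G)) : NB 3 G := by
  have : Fact (Nat.Prime 3) := ⟨Nat.prime_three⟩
  obtain ⟨f, F⟩ := Cfsg.Agent.CpAutTh.Local.exists_epi h
  have hox : orderOf (ev γ X33) = 3 := by
    have := o33 h F
    rwa [Subgroup.orderOf_mk] at this
  have hQ : Subgroup.centralizer ((zpowers (ev γ X33) : Subgroup G) : Set G) = centralizer ({ev γ X33} : Set G) := by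
    rw [zpowers_eq_closure]
    exact centralizer_closure _
  have hc0 : cc γ 0 ∈ E γ := c_mem_E h (Or.inl rfl)
  have hc0a : cc γ 0 * γ 1 = γ 1 * cc γ 0 := (h.Q_comm (E_le h hc0)).symm
  have hcc : cc γ 0 * cc γ 0 = 1 := h.data.cc 0
  have hc1 : cc γ 0 ≠ 1 := by
    intro h1
    have h2 := mask_c h.data 0
    rw [h1] at h2
    exact absurd (unique h.data h2 (mask_one h.data)) (by decide +kernel)
  have hc0ne : cc γ 0 ≠ γ 1 := by
    intro h1
    have h2 := mask_c h.data 0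
    rw [h1] at h2
    exact absurd (unique h.data h2 (mask_a h.data)) (by decide +kernel)
  have hcH : cc γ 0 ∈ centralizer ({ev γ X33} : Set G) := hc0.2
  have haH : γ 1 ∈ centralizer ({ev γ X33} : Set G) :=
    mem_centralizer_singleton_iff.2 (h.mem_C.1 (ev_mem_sub c33)).symm
  have hcent : ∀ R : Subgroup G, IsPGroup 3 R → R ≤ centralizer ((zpowers (ev γ X33) : Subgroup G) : Set G) →
      (∀ c ∈ centralizer ((zpowers (ev γ X33) : Subgroup G) : Set G), ∀ z ∈ R, c * z * c⁻¹ ∈ R) →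
      ∀ z ∈ R, γ 1 * z = z * γ 1 := by
    intro R hR hRC hRn
    rw [hQ] at hRC hRn
    have hodd : Odd (Nat.card R) := by
      obtain ⟨k, hk⟩ := IsPGroup.iff_card.1 hR
      rw [hk]
      exact Odd.pow (by decide)
    refine four_cent (H := centralizer ({ev γ X33} : Set G)) (E := Q0 γ) hodd hRn hRC
      (IsPGroup.of_card (n := 9) (by rw [h.cardQ]; norm_num)) (s := γ 1) (e := cc γ 0) haH hcH h.aa hcc hc0a.symm
      (E_le h hc0) h.a_mem ?_ ?_ ?_
    · intro c _ hcs z hz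
      have h1 := h.Q_conj (inv_mem (h.mem_C.2 hcs)) hz
      rwa [inv_inv] at h1
    · exact th_conj h hone _ hcH (orderOf_eq_prime (by rw [pow_two, hcc]) hc1)
    · refine th_conj h hone _ (mul_mem haH hcH) (orderOf_eq_prime ?_ ?_)
      · rw [pow_two]
        calc γ 1 * cc γ 0 * (γ 1 * cc γ 0) = γ 1 * (cc γ 0 * γ 1) * cc γ 0 := by group
          _ = γ 1 * (γ 1 * cc γ 0) * cc γ 0 := by rw [hc0a]
          _ = (γ 1 * γ 1) * (cc γ 0 * cc γ 0) := by group
          _ = 1 := by rw [h.aa, hcc, one_mul]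
      · intro h1
        apply hc0ne
        calc cc γ 0 = (γ 1 * γ 1) * cc γ 0 := by rw [h.aa, one_mul]
          _ = γ 1 * (γ 1 * cc γ 0) := by group
          _ = γ 1 := by rw [h1, mul_one]
  refine NB.of_fix hna ih (zpowers (ev γ X33))
    (IsPGroup.of_card (n := 1) (by rw [Nat.card_zpowers, hox, pow_one])) ?_ (y := γ 1) (by rw [hQ]; exact haH) ?_
    (fun R hR hRC _ hRn => hcent R hR hRC hRn)
  · rw [Ne, zpowers_eq_bot]
    intro h1
    rw [h1, orderOf_one] at hox
    norm_num at hox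
  · exact not_pow_of_order Nat.prime_two (by norm_num)
      (orderOf_eq_prime (by rw [pow_two]; exact h.aa) h.a1)

end

/-- **`Th` has more than one 3-block.** -/
theorem nb_th_three (S : Type) [Group S] [Finite S] [IsSimpleGroup S] (h : Spor.IsoTh S)
    (ih : IH 3 (Nat.card S)) : NB 3 S := by
  obtain ⟨e⟩ := h
  have hcard : Nat.card Spor.Th = 90745943887872000 := Cfsg.Agent.S1700.result.2
  have hsim : IsSimpleGroup Spor.Th := Cfsg.Agent.S1700.result.1
  have hfin : Finite Spor.Th := Nat.finite_of_card_ne_zero (by rw [hcard]; norm_num)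
  have hna : ¬ IsMulCommutative Spor.Th := by
    intro hc
    have h1 : (Nat.card Spor.Th).Prime := by
      have := hc
      let _ : CommGroup Spor.Th := { (inferInstance : Group Spor.Th) with mul_comm := fun a b => hc.is_comm.comm a b }
      exact IsSimpleGroup.prime_card (α := Spor.Th)
    rw [hcard] at h1
    norm_num at h1
  refine NB.iso e.symm (nb_th_aux Cfsg.Agent.KFacts.Th.Main.ctx
    (fun u hu => isConj_iff.1 (Cfsg.Agent.MonsterX.ThOneClass.oneClass u (Cfsg.Agent.Th.IndexUpper.gTh 1) hu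
      Cfsg.Agent.MonsterX.ThOneClass.orderOf_a)) hna ?_)
  rw [← Nat.card_congr e.toEquiv]
  exact ih

end Cfsg.Agent.H94.NBC
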