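import Cfsg.Agent.H94.NBC
import Cfsg.Agent.H492.IMHN
import Cfsg.Agent.HN.A12Group

/-!
# `HN` has more than one `p`-block, `p` odd (helper94, for the hub S5003)

`p = 3`, `5` : the alternating group of degree 12; `p = 7`, `11`, `19` : `p` divides `|HN|` once and `HN` has an
irreducible character of degree divisible by `p`.
-/

set_option autoImplicit false

namespace Cfsg.Agent.H94.NBC

open Cfsg Subgroup
open Cfsg.Agent Cfsg.Agent.H7.NBp Cfsg.Agent.H718.NBIH Cfsg.Agent.H33

/-- `p` divides `|G|` exactly once and some irreducible character has degree divisible by `p` -/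
theorem NB.of_IM {p : ℕ} [hp : Fact p.Prime] {G : Type*} [Group G] [Finite G] (h : IM p G)
    (h2 : ¬ p ^ 2 ∣ Nat.card G) : NB p G := by
  obtain ⟨χ, hχ⟩ := h
  have hd : charDegree (χ : G → ℂ) ∣ Nat.card G := Cfsg.Agent.Blocks.Knorr.charDegree_dvd χ.2
  refine NB.of_dz' χ ?_ ?_
  · intro h1
    rw [h1] at hχ
    exact hp.out.one_lt.ne' (Nat.dvd_one.1 hχ)
  · intro h1
    apply h2
    obtain ⟨k, hk⟩ := hd
    have h0 : 0 < charDegree (χ : G → ℂ) := Nat.pos_of_ne_zero fun h0 => by
      rw [h0, zero_mul] at hk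
      exact Nat.card_pos.ne' hk
    rw [hk, Nat.mul_div_cancel_left _ h0] at h1
    rw [hk, pow_two]
    exact mul_dvd_mul hχ h1

theorem sq_num {p : ℕ} (hp : p.Prime) (h : p ^ 2 ∣ 7 * (11 * 19)) : False := by
  have h9 : p ≤ 38 := by
    have := Nat.le_of_dvd (by norm_num) h
    nlinarith
  have h2 := hp.two_le
  interval_cases p <;> revert h <;> norm_num

theorem nb_hn {p : ℕ} [hp : Fact p.Prime] (h2 : p ≠ 2) (S : Type) [Group S] [Finite S] [IsSimpleGroup S]
    (h : Spor.IsoHN S) (ih : IH p (Nat.card S)) : NB p S := by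
  by_cases hd : p ∣ Nat.card S
  swap
  · exact NB.of_not_dvd hd
  have him := Cfsg.Agent.H492.IMHN.im_hn h hd
  have hcard : Nat.card S = 273030912000000 := by
    obtain ⟨e⟩ := h
    rw [Nat.card_congr e.toEquiv]
    exact Cfsg.Agent.S1701.result.2
  have hna : ¬ IsMulCommutative S := by
    intro hc
    have h1 : (Nat.card S).Prime := by
      have := hc
      let _ : CommGroup S := { (inferInstance : Group S) with mul_comm := fun a b => hc.is_comm.comm a b }
      exact IsSimpleGroup.prime_card (α := S)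
    rw [hcard] at h1
    norm_num at h1
  have hA : ∃ f : alternatingGroup (Fin 12) →* S, Function.Injective f := by
    obtain ⟨e⟩ := h
    have := Cfsg.Agent.S1701.result.1
    obtain ⟨K, ⟨g⟩⟩ := Cfsg.Agent.HN.A12Group.exists_alternating
    exact ⟨e.symm.toMonoidHom.comp (K.subtype.comp g.symm.toMonoidHom),
      e.symm.injective.comp (K.subtype_injective.comp g.symm.injective)⟩
  obtain ⟨f, hf⟩ := hA
  by_cases h3 : p = 3
  · subst h3
    exact NB.of_alternating h2 hna ih (a := 9) (by norm_num) f hf (r := 7) (by norm_num) (by norm_num)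
      (by norm_num) 1 hcard (by norm_num [Nat.factorial]) (by decide)
  by_cases h5 : p = 5
  · subst h5
    exact NB.of_alternating h2 hna ih (a := 7) (by norm_num) f hf (r := 7) (by norm_num) (by norm_num)
      (by norm_num) 4 hcard (by norm_num [Nat.factorial]) (by decide)
  · refine NB.of_IM him ?_
    intro h6
    rw [hcard] at h6 hd
    have h7 : (273030912000000 : ℕ) = 2 ^ 14 * (3 ^ 6 * (5 ^ 6 * (7 * (11 * 19)))) := by norm_num
    rw [h7] at h6 hd
    have hc : ∀ q : ℕ, q.Prime → p ≠ q → Nat.Coprime p q := fun q hq hpq =>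
      (Nat.coprime_primes hp.out hq).2 hpq
    have h8 : p ^ 2 ∣ 7 * (11 * 19) := by
      have e1 := Nat.Coprime.dvd_of_dvd_mul_left (Nat.Coprime.pow 2 14 (hc 2 (by norm_num) h2)) h6
      have e2 := Nat.Coprime.dvd_of_dvd_mul_left (Nat.Coprime.pow 2 6 (hc 3 (by norm_num) h3)) e1
      exact Nat.Coprime.dvd_of_dvd_mul_left (Nat.Coprime.pow 2 6 (hc 5 (by norm_num) h5)) e2
    exact sq_num hp.out h8

end Cfsg.Agent.H94.NBC
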