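import Cfsg.Agent.H94.PrimeGraph

/-!
# Isolated nilpotent Hall subgroups from `Good` (helper94, for S2224)
-/

set_option autoImplicit false
set_option linter.unusedVariables false

namespace Cfsg.Agent.H94.PG

open Subgroup

/-- **S2224 for a group with `Good`** -/
theorem isoHall_of_good {G : Type*} [Group G] [Finite G] (h : Good G) (hG : ¬ IsMulCommutative G)
    (r : ℕ) (hr : r.Prime) (hrG : r ∣ Nat.card G) (h2 : ¬ Conn G r 2) :
    ∃ H : Subgroup G, Group.IsNilpotent ↥H ∧ (Nat.card H).Coprime H.index ∧ H ≠ ⊥ ∧ H ≠ ⊤ ∧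
      (∀ q : ℕ, (q.Prime ∧ q ∣ Nat.card H) ↔ (q ∣ Nat.card G ∧ q.Prime ∧ Conn G r q)) ∧
      ∀ x ∈ H, x ≠ 1 → Subgroup.centralizer ({x} : Set G) ≤ H := by
  obtain ⟨T, h1, hc, h3⟩ := h r hr hrG h2
  refine ⟨T, ?_, S0588.result T h3, ?_, ?_, ?_, h3⟩
  · let _ : CommGroup T := { (inferInstance : Group T) with
      mul_comm := fun a b => Subtype.ext (hc a a.2 b b.2) }
    exact CommGroup.isNilpotent
  · rintro rfl
    rw [Subgroup.card_bot] at h1
    exact hr.one_lt.ne' (Nat.dvd_one.1 h1)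
  · rintro rfl
    exact hG ⟨⟨fun a b => hc a (mem_top a) b (mem_top b)⟩⟩
  · intro q
    constructor
    · rintro ⟨hq, hd⟩
      obtain ⟨h4, h5⟩ := (prime_iff hr h1 hc h3 hq).1 hd
      exact ⟨h4, hq, h5⟩
    · rintro ⟨h4, hq, h5⟩
      exact ⟨hq, (prime_iff hr h1 hc h3 hq).2 ⟨h4, h5⟩⟩

end Cfsg.Agent.H94.PG
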