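import Cfsg.Agent.S0000
import Cfsg.Agent.H94.IsoHall
import Cfsg.Agent.H94.RankOne
import Cfsg.Agent.H94.AltAC
import Cfsg.Agent.H94.Sp.AC
import Cfsg.Agent.H564.PSL
import Cfsg.Agent.H182.CentAll
import Cfsg.Agent.H182.CentU
import Cfsg.Agent.H378.RegFin
import Cfsg.Agent.H378.RegE7
import Cfsg.Agent.H378.TwRowsF

/-!
# Centralizers in odd components of the prime graph of a simple group (helper94)

`ac_known : IsKnownSimple' S → AC S`, `good_known`, and by the classification `ac_simple`, `good_simple` :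
in a finite simple group the centralizer of an element of prime order `r`, `r` not connected to 2 in the prime graph, is
abelian; each such prime `r ∣ |G|` divides the order of an abelian subgroup containing the centralizers of its
nonidentity elements.
-/

set_option autoImplicit false

namespace Cfsg.Agent.H94.ACAll

open Cfsg Cfsg.Agent.H94.PG

theorem ac_cyc {S : Type*} [Group S] (h : ∀ a b : S, Commute a b) : AC S := fun _ _ _ a b _ _ => h a b

/-- **the rows** -/
theorem ac_known {S : Type*} [Group S] [Finite S] (h : IsKnownSimple' S) : AC S := by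
  rcases h with h | h | h | h | h | h | h | h | h | h
  · refine ac_cyc fun a b => ?_
    have h1 : Fact (Nat.card S).Prime := ⟨h⟩
    have h2 : IsCyclic S := isCyclic_of_prime_card (p := Nat.card S) rfl
    obtain ⟨g, hg⟩ := IsCyclic.exists_generator (α := S)
    obtain ⟨i, rfl⟩ := hg a
    obtain ⟨j, rfl⟩ := hg b
    exact (Commute.refl g).zpow_zpow i j
  · obtain ⟨n, -, ⟨e⟩⟩ := h
    exact AC.congr e.symm (alt_AC (Fin n))
  · exact H564.PSLn.ac_of_isPSL h
  · exact H182.Cent.ac (Or.inl h)
  · exact H182.Cent.ac_psu h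
  · exact H182.Cent.ac (Or.inr (Or.inl h))
  · exact H182.Cent.ac (Or.inr (Or.inr (Or.inl h)))
  · exact H182.Cent.ac (Or.inr (Or.inr (Or.inr h)))
  · rcases h with h | h | h | h | h | h | h | h | h | h | h
    · obtain ⟨F, _, _, -, ⟨e⟩⟩ := h
      exact AC.congr e.symm (H378.RegFin.ac_G2 F)
    · obtain ⟨F, _, _, ⟨e⟩⟩ := h
      exact AC.congr e.symm (H378.RegFin.ac_F4 F)
    · obtain ⟨F, _, _, ⟨e⟩⟩ := h
      exact AC.congr e.symm (H378.RegFin.ac_E6 F)
    · obtain ⟨F, _, _, ⟨e⟩⟩ := h
      exact AC.congr e.symm (H378.RegE7.ac_E7 F)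
    · obtain ⟨F, _, _, ⟨e⟩⟩ := h
      exact AC.congr e.symm (H378.RegFin.ac_E8 F)
    · obtain ⟨K, _, _, q, hq, hK, ⟨e⟩⟩ := h
      exact AC.congr e.symm (H378.TwRows.ac_2E6 hq hK)
    · obtain ⟨K, _, _, q, hq, hK, ⟨e⟩⟩ := h
      exact AC.congr e.symm (H378.TwRows.ac_3D4 hq hK)
    · exact (H94.RankOne.good2_sz h).ac
    · exact (H94.RankOne.good2_ree h).ac
    · exact (H378.TwRowsF.good2_iso2F4 h).ac
    · exact H94.PG.Sp.ac_tits h
  · exact H94.PG.Sp.ac_sporadic h

theorem good_known {S : Type*} [Group S] [Finite S] (h : IsKnownSimple' S) : Good S := (ac_known h).good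

universe u

/-- by the classification -/
theorem ac_simple (G : Type u) [Group G] [Finite G] (hs : IsSimpleGroup G) : AC G :=
  haveI := hs
  ac_known S0000.result

/-- by the classification -/
theorem good_simple (G : Type u) [Group G] [Finite G] (hs : IsSimpleGroup G) : Good G := (ac_simple G hs).good

end Cfsg.Agent.H94.ACAll
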