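import Mathlib
import Cfsg.Agent.SignalizersComponents.BaerTrick

/-!
# Nonabelian normal subgroups of exponent `s` in the Frattini subgroup (helper94, for S3988)

`not_le_frattini` : let `s` be an odd prime and `V` a normal subgroup of exponent `s` of the finite group `X`,
nonabelian, with central commutators (central in `X`) and such that `V / (V ∩ Z(X))` is irreducible. Then `V` is
not contained in the Frattini subgroup.
-/

set_option autoImplicit false
set_option linter.unusedSectionVars false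

open scoped commutatorElement

namespace Cfsg.Agent.H94.Lift

open Cfsg.Agent.SignalizersComponents.BaerTrick

universe u

section

variable {X : Type u} [Group X] [Finite X] {s : ℕ} [hs : Fact s.Prime]

theorem comm_conj_of_center {g w u : X} (h : ⁅w, g⁻¹ * u * g⁆ ∈ Subgroup.center X) :
    ⁅g * w * g⁻¹, u⁆ = ⁅w, g⁻¹ * u * g⁆ := by
  have h1 : ⁅g * w * g⁻¹, u⁆ = g * ⁅w, g⁻¹ * u * g⁆ * g⁻¹ := by
    simp only [commutatorElement_def]; group
  rw [h1, Subgroup.mem_center_iff.1 h g, mul_inv_cancel_right]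

theorem exists_add {N : Type u} [Group N] [Finite N] (hodd : Odd (Nat.card N))
    (hc : ∀ x y : N, ⁅x, y⁆ ∈ Subgroup.center N) (hexp : ∀ x : N, x ^ s = 1) :
    ∃ (A : Type u) (_ : AddCommGroup A) (_ : Module (ZMod s) A) (_ : Finite A) (e : N ≃ A), e 1 = 0 ∧
      (∀ x, e x⁻¹ = - e x) ∧ (∀ x y, Commute x y → e (x * y) = e x + e y) ∧
      (∀ (f : N →* N) (a b : A), e (f (e.symm (a + b))) = e (f (e.symm a)) + e (f (e.symm b))) := by
  obtain ⟨B, instB, e, he_pow, he_mul, he_map⟩ := exists_baer N hodd hc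
  have he1 : e 1 = 1 := by
    have := he_pow 1 0
    rwa [pow_zero, pow_zero] at this
  have he_inv : ∀ x : N, e x⁻¹ = (e x)⁻¹ := by
    intro x
    have h1 := he_mul x⁻¹ x (Commute.inv_left rfl)
    rw [inv_mul_cancel, he1] at h1
    exact eq_inv_of_mul_eq_one_left h1.symm
  have hsmul : ∀ a : Additive B, s • a = 0 := by
    intro a
    have h1 : (Additive.toMul a) ^ s = 1 := by
      have h2 := he_pow (e.symm (Additive.toMul a)) s
      rw [e.apply_symm_apply] at h2
      rw [← h2, hexp, he1]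
    exact congrArg Additive.ofMul h1
  exact ⟨Additive B, inferInstance, AddCommGroup.zmodModule hsmul, Finite.of_equiv N e,
    e.trans Additive.ofMul, congrArg Additive.ofMul he1, fun x => congrArg Additive.ofMul (he_inv x),
    fun x y h => congrArg Additive.ofMul (he_mul x y h), fun f a b =>
      congrArg Additive.ofMul (he_map f (Additive.toMul a) (Additive.toMul b))⟩

theorem core (V : Subgroup X) [hV : V.Normal]
    (hcen : ∀ u ∈ V, ∀ v ∈ V, ⁅u, v⁆ ∈ Subgroup.center X)
    (hirr : ∀ R : Subgroup X, R.Normal → V ⊓ Subgroup.center X ≤ R → R ≤ V →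
      R = V ⊓ Subgroup.center X ∨ R = V)
    {w0 u0 : X} (hw0 : w0 ∈ V) (hu0 : u0 ∈ V) (hc0 : ⁅w0, u0⁆ ≠ 1)
    {A : Type u} [AddCommGroup A] [Module (ZMod s) A] [Finite A] (e : V ≃ A) (he1 : e 1 = 0)
    (he_inv : ∀ x, e x⁻¹ = - e x) (he_mul : ∀ x y, Commute x y → e (x * y) = e x + e y)
    (he_map : ∀ (f : V →* V) (a b : A), e (f (e.symm (a + b))) = e (f (e.symm a)) + e (f (e.symm b))) :
    ∃ H : Subgroup X, H ≠ ⊤ ∧ H ⊔ V = ⊤ := by
  classical
  have hc : ∀ x y : V, ⁅x, y⁆ ∈ Subgroup.center V := by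
    intro x y
    rw [Subgroup.mem_center_iff]
    intro z
    exact Subtype.ext (Subgroup.mem_center_iff.1 (hcen x x.2 y y.2) z)
  have he_cen : ∀ x y : V, (x : X) ∈ Subgroup.center X → e (x * y) = e x + e y := by
    intro x y hx
    exact he_mul x y (Subtype.ext (Subgroup.mem_center_iff.1 hx y).symm)
  have hfin : Module.Finite (ZMod s) A := Module.Finite.of_finite
  -- a functional
  obtain ⟨q, hq⟩ : ∃ q : Module.Dual (ZMod s) A, q (e ⁅(⟨w0, hw0⟩ : V), (⟨u0, hu0⟩ : V)⁆) ≠ 0 := by
    by_contra hcon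
    push Not at hcon
    have h1 := (Module.forall_dual_apply_eq_zero_iff (ZMod s) _).1 hcon
    have h3 : ⁅(⟨w0, hw0⟩ : V), (⟨u0, hu0⟩ : V)⁆ = 1 := e.injective (h1.trans he1.symm)
    exact hc0 (congrArg Subtype.val h3)
  -- commutation with `w`
  have hD : ∀ (w : V) (a b : A), e ⁅w, e.symm (a + b)⁆ = e ⁅w, e.symm a⁆ + e ⁅w, e.symm b⁆ := by
    intro w a b
    have h1 := he_map (MulAut.conj w).toMonoidHom a b
    have h2 : ∀ c : A, e ((MulAut.conj w).toMonoidHom (e.symm c)) = e ⁅w, e.symm c⁆ + c := by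
      intro c
      have h3 : (MulAut.conj w).toMonoidHom (e.symm c) = ⁅w, e.symm c⁆ * e.symm c := by
        rw [MulEquiv.coe_toMonoidHom, MulAut.conj_apply, commutatorElement_def]
        group
      rw [h3, he_cen _ _ (hcen w w.2 _ (e.symm c).2), e.apply_symm_apply]
    rw [h2, h2, h2] at h1
    have h4 : e ⁅w, e.symm a⁆ + a + (e ⁅w, e.symm b⁆ + b) = e ⁅w, e.symm a⁆ + e ⁅w, e.symm b⁆ + (a + b) := by
      abel
    rw [h4] at h1
    exact add_right_cancel h1
  have hanti : ∀ x y : V, e ⁅x, y⁆ = - (e ⁅y, x⁆) := by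
    intro x y
    rw [← he_inv, commutatorElement_inv]
  have he0 : e.symm 0 = 1 := by rw [Equiv.symm_apply_eq, he1]
  let T0 : V → (A →+ ZMod s) := fun w =>
    { toFun := fun a => q (e ⁅w, e.symm a⁆)
      map_zero' := by rw [he0, commutatorElement_one_right, he1, map_zero]
      map_add' := by
        intro a b
        rw [hD, map_add] }
  let T : V → (A →ₗ[ZMod s] ZMod s) := fun w => (T0 w).toZModLinearMap s
  have hT : ∀ (w : V) (a : A), T w a = q (e ⁅w, e.symm a⁆) := fun _ _ => rfl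
  have hTe : ∀ (w u : V), T w (e u) = q (e ⁅w, u⁆) := by
    intro w u
    rw [hT, e.symm_apply_apply]
  have hT_mul : ∀ w w' : V, T (w * w') = T w + T w' := by
    intro w w'
    ext a
    rw [LinearMap.add_apply, hT, hT, hT, ← map_add, comm_left_of_class_two hc,
      he_cen _ _ (hcen w w.2 _ (e.symm a).2)]
  have hT_symm : ∀ a b : A, T (e.symm a) b = - T (e.symm b) a := by
    intro a b
    rw [hT, hT, hanti, map_neg]
  let Ψ0 : A →+ (A →ₗ[ZMod s] ZMod s) :=
    { toFun := fun a => T (e.symm a)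
      map_zero' := by
        ext b
        rw [hT_symm, map_zero, neg_zero]
        rfl
      map_add' := by
        intro a a'
        ext b
        rw [LinearMap.add_apply, hT_symm, hT_symm a, hT_symm a', map_add, neg_add] }
  let Ψ : A →ₗ[ZMod s] (A →ₗ[ZMod s] ZMod s) := Ψ0.toZModLinearMap s
  have hΨ : ∀ a : A, Ψ a = T (e.symm a) := fun _ => rfl
  -- the radical
  have hT1 : T 1 = 0 := by
    have h3 := hT_mul 1 1
    rw [mul_one] at h3
    exact (add_eq_left.1 h3.symm)
  have hTinv : ∀ w : V, T w⁻¹ = - T w := by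
    intro w
    have h1 := hT_mul w⁻¹ w
    rw [inv_mul_cancel, hT1] at h1
    exact eq_neg_of_add_eq_zero_left h1.symm
  let R : Subgroup X :=
    { carrier := {w | ∃ hw : w ∈ V, T ⟨w, hw⟩ = 0}
      one_mem' := ⟨V.one_mem, hT1⟩
      mul_mem' := by
        rintro a b ⟨ha, ha'⟩ ⟨hb, hb'⟩
        refine ⟨V.mul_mem ha hb, ?_⟩
        have h1 := hT_mul ⟨a, ha⟩ ⟨b, hb⟩
        rw [ha', hb', add_zero] at h1
        exact h1
      inv_mem' := by
        rintro a ⟨ha, ha'⟩
        refine ⟨V.inv_mem ha, ?_⟩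
        have h1 := hTinv ⟨a, ha⟩
        rw [ha', neg_zero] at h1
        exact h1 }
  have hRn : R.Normal := by
    constructor
    rintro w ⟨hw, hw'⟩ g
    refine ⟨hV.conj_mem w hw g, ?_⟩
    ext a
    rw [LinearMap.zero_apply, hT]
    set u : V := e.symm a with hu
    have hu' : g⁻¹ * (u : X) * g ∈ V := by
      have := hV.conj_mem (u : X) u.2 g⁻¹
      rwa [inv_inv] at this
    have h1 : ⁅(⟨g * w * g⁻¹, hV.conj_mem w hw g⟩ : V), u⁆ = ⁅(⟨w, hw⟩ : V), (⟨g⁻¹ * u * g, hu'⟩ : V)⁆ :=
      Subtype.ext (comm_conj_of_center (hcen w hw _ hu'))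
    rw [h1, ← hTe, hw']
    rfl
  have hRle : R ≤ V := fun w hw => hw.1
  have hRge : V ⊓ Subgroup.center X ≤ R := by
    rintro w ⟨hw, hw'⟩
    refine ⟨hw, ?_⟩
    ext a
    rw [LinearMap.zero_apply, hT]
    have h1 : ⁅(⟨w, hw⟩ : V), e.symm a⁆ = 1 := by
      rw [commutatorElement_eq_one_iff_mul_comm]
      exact Subtype.ext (Subgroup.mem_center_iff.1 hw' _).symm
    rw [h1, he1, map_zero]
  have hR : R = V ⊓ Subgroup.center X := by
    rcases hirr R hRn hRge hRle with h | h
    · exact h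
    · exfalso
      have h1 : w0 ∈ R := by rw [h]; exact hw0
      obtain ⟨h2, h3⟩ := h1
      apply hq
      have h4 := hTe ⟨w0, hw0⟩ ⟨u0, hu0⟩
      rw [h3] at h4
      exact h4.symm
  -- duality
  have hdual : ∀ f : A →ₗ[ZMod s] ZMod s, (∀ b, Ψ b = 0 → f b = 0) → ∃ a, Ψ a = f := by
    intro f hf
    have h1 : LinearMap.range Ψ ≤ (LinearMap.ker Ψ).dualAnnihilator := by
      rintro _ ⟨a, rfl⟩
      rw [Submodule.mem_dualAnnihilator]
      intro b hb
      have hb' : Ψ b = 0 := hb
      rw [hΨ, hT_symm, ← hΨ, hb', LinearMap.zero_apply, neg_zero]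
    have h2 : Module.finrank (ZMod s) (LinearMap.range Ψ) =
        Module.finrank (ZMod s) (LinearMap.ker Ψ).dualAnnihilator := by
      have h3 := Subspace.finrank_add_finrank_dualAnnihilator_eq (LinearMap.ker Ψ)
      have h4 := Ψ.finrank_range_add_finrank_ker
      omega
    have h5 := Submodule.eq_of_le_of_finrank_eq h1 h2
    have h6 : f ∈ (LinearMap.ker Ψ).dualAnnihilator := by
      rw [Submodule.mem_dualAnnihilator]
      intro b hb
      exact hf b hb
    rw [← h5] at h6
    exact h6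
  -- the stabiliser of `q`
  let φ : X → V → V := fun g v => MulAut.conjNormal g v
  have hφ : ∀ (g : X) (v : V), ((φ g v : V) : X) = g * v * g⁻¹ := fun g v => MulAut.conjNormal_apply g v
  have hφmul : ∀ (g g' : X) (v : V), φ (g * g') v = φ g (φ g' v) := by
    intro g g' v
    apply Subtype.ext
    rw [hφ, hφ, hφ]
    group
  let H : Subgroup X :=
    { carrier := {g | ∀ v : V, q (e (φ g v)) = q (e v)}
      one_mem' := by
        intro v
        have h1 : φ 1 v = v := Subtype.ext (by rw [hφ]; group)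
        rw [h1]
      mul_mem' := by
        intro a b ha hb v
        rw [hφmul, ha, hb]
      inv_mem' := by
        intro a ha v
        have h1 := ha (φ a⁻¹ v)
        rw [← hφmul, mul_inv_cancel] at h1
        have h2 : φ 1 v = v := Subtype.ext (by rw [hφ]; group)
        rw [h2] at h1
        exact h1.symm }
  refine ⟨H, ?_, ?_⟩
  · intro hHtop
    have h1 : w0 ∈ H := by rw [hHtop]; trivial
    have h2 := h1 ⟨u0, hu0⟩
    have h3 : φ w0 ⟨u0, hu0⟩ = ⁅(⟨w0, hw0⟩ : V), (⟨u0, hu0⟩ : V)⁆ * ⟨u0, hu0⟩ := by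
      apply Subtype.ext
      rw [hφ]
      show _ = ⁅w0, u0⁆ * u0
      rw [commutatorElement_def]
      group
    rw [h3, he_cen _ _ (hcen w0 hw0 u0 hu0), map_add] at h2
    exact hq (add_eq_right.1 h2)
  · rw [eq_top_iff]
    intro g _
    let f0 : A →+ ZMod s :=
      { toFun := fun a => q (e (φ g (e.symm a))) - q a
        map_zero' := by
          have h2 : φ g 1 = 1 := map_one (MulAut.conjNormal g : MulAut V)
          rw [he0, h2, he1, map_zero, sub_zero]
        map_add' := by
          intro a b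
          have h1 := he_map (MulAut.conjNormal g : MulAut V).toMonoidHom a b
          have h2 : q (e (φ g (e.symm (a + b)))) = q (e (φ g (e.symm a))) + q (e (φ g (e.symm b))) := by
            rw [← map_add]
            exact congrArg q h1
          rw [h2, map_add]
          ring }
    let f : A →ₗ[ZMod s] ZMod s := f0.toZModLinearMap s
    have hf : ∀ v : V, f (e v) = q (e (φ g v)) - q (e v) := by
      intro v
      show q (e (φ g (e.symm (e v)))) - q (e v) = _
      rw [e.symm_apply_apply]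
    obtain ⟨a, ha⟩ := hdual f (by
      intro b hb
      obtain ⟨v, rfl⟩ := e.surjective b
      have h1 : (v : X) ∈ R := ⟨v.2, by rw [hΨ, e.symm_apply_apply] at hb; exact hb⟩
      rw [hR] at h1
      have h2 : φ g v = v := by
        apply Subtype.ext
        rw [hφ, Subgroup.mem_center_iff.1 h1.2 g, mul_inv_cancel_right]
      rw [hf, h2, sub_self])
    set w : V := (e.symm a)⁻¹ with hw
    have hwT : T w = - f := by
      rw [hw, hTinv, ← hΨ, ha]
    have h1 : g * (w : X) ∈ H := by
      intro v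
      have h2 : φ (w : X) v = ⁅w, v⁆ * v := by
        apply Subtype.ext
        rw [hφ]
        show _ = ⁅(w : X), (v : X)⁆ * (v : X)
        rw [commutatorElement_def]
        group
      have h3 : φ g (⁅w, v⁆ * v) = ⁅w, v⁆ * φ g v := by
        apply Subtype.ext
        rw [hφ]
        show g * (⁅(w : X), (v : X)⁆ * (v : X)) * g⁻¹ = ⁅(w : X), (v : X)⁆ * ((φ g v : V) : X)
        rw [hφ, ← mul_assoc, Subgroup.mem_center_iff.1 (hcen w w.2 v v.2) g]
        simp only [mul_assoc]
      rw [hφmul, h2, h3, he_cen _ _ (hcen w w.2 v v.2), map_add, ← hTe, hwT, LinearMap.neg_apply, hf]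
      ring
    have h5 : g = g * (w : X) * (w : X)⁻¹ := (mul_inv_cancel_right g (w : X)).symm
    rw [h5]
    exact Subgroup.mul_mem_sup h1 (V.inv_mem w.2)

/-- an extraspecial type normal subgroup of exponent `s` is not contained in the Frattini subgroup -/
theorem not_le_frattini (hs2 : s ≠ 2) (V : Subgroup X) [hV : V.Normal] (hexp : ∀ v ∈ V, v ^ s = 1)
    (hcen : ∀ u ∈ V, ∀ v ∈ V, ⁅u, v⁆ ∈ Subgroup.center X)
    (hirr : ∀ R : Subgroup X, R.Normal → V ⊓ Subgroup.center X ≤ R → R ≤ V →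
      R = V ⊓ Subgroup.center X ∨ R = V)
    (hna : ∃ u ∈ V, ∃ v ∈ V, ⁅u, v⁆ ≠ 1) : ¬ V ≤ frattini X := by
  intro hfr
  obtain ⟨w0, hw0, u0, hu0, hc0⟩ := hna
  have hgrp : IsPGroup s V := by
    intro v
    exact ⟨1, Subtype.ext (by rw [pow_one]; exact hexp v v.2)⟩
  have hodd : Odd (Nat.card V) := by
    obtain ⟨n, hn⟩ := IsPGroup.iff_card.1 hgrp
    rw [hn]
    exact (hs.out.odd_of_ne_two hs2).pow
  have hc : ∀ x y : V, ⁅x, y⁆ ∈ Subgroup.center V := by
    intro x y
    rw [Subgroup.mem_center_iff]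
    intro z
    exact Subtype.ext (Subgroup.mem_center_iff.1 (hcen x x.2 y y.2) z)
  obtain ⟨A, _, _, _, e, he1, he_inv, he_mul, he_map⟩ := exists_add (s := s) hodd hc
    (fun x => Subtype.ext (hexp x x.2))
  obtain ⟨H, hH, hHV⟩ := core (s := s) V hcen hirr hw0 hu0 hc0 e he1 he_inv he_mul he_map
  apply hH
  apply frattini_nongenerating
  rw [eq_top_iff, ← hHV]
  exact sup_le_sup le_rfl hfr

end

end Cfsg.Agent.H94.Lift
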