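import Mathlib
import Cfsg.Agent.H7.NBpComp
import Cfsg.Agent.H718.NBIH
import Cfsg.Agent.SignalizersComponents.CharP
import Cfsg.Agent.SignalizersComponents.Components
import Cfsg.Agent.Lib.GenFitting
import Cfsg.Agent.Lib.ProductSet

/-!
# One `p`-block implies characteristic `p` type (helper94, for the hub S5003)

With the induction hypothesis `IH p n` (all smaller nonabelian simple groups have a nonprincipal `p`-block):

* `NB.of_not_charP` : `C_G(O_p(G)) ≰ O_p(G)`, `|G| < n` implies `NB p G`;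
* `NB.or_charP` : `G` simple, `Q ≠ 1` a `p`-subgroup: `NB p G`, or there is a `p`-subgroup `R` normal in `C_G(Q)` with
  `C_{C_G(Q)}(R) ≤ R`;
* `NB.of_fix` : it is enough to have `y ∈ C_G(Q)`, not a `p`-element, centralizing all `p`-subgroups normal in `C_G(Q)`;
* `NB.of_order` : `y ∈ C_G(Q)` of prime order `r`, and `r ∤ p ^ i - 1` whenever `p ^ i ∣ |R|`, `0 < i`;
* `NB.of_sub`, `NB.of_simple_hom` : `x` of order `p` commutes with `L`, `O_p(L) = 1` (`L` simple), and with `y` of prime
  order `r`; `p ^ (B + 2) * |L| ∤ |G|` and `r ∤ p ^ i - 1` for `1 ≤ i ≤ B`;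
* `NB.of_alternating` : the same for an alternating group of degree `a + p`, `r ≤ a`.
-/

set_option autoImplicit false

namespace Cfsg.Agent.H94.NBC

open Cfsg Subgroup
open Cfsg.Agent Cfsg.Agent.H7.NBp Cfsg.Agent.H718.NBIH
open Cfsg.Agent.SignalizersComponents.Components

section

variable {p : ℕ} [hp : Fact p.Prime] {G : Type*} [Group G] [Finite G]

/-- a component, if `O_{p'}(G) = 1` and `C(O_p(G)) ≰ O_p(G)` -/
theorem exists_component (hO : pPrimeCore p G = ⊥)
    (h : ¬ centralizer (pCore p G : Set G) ≤ pCore p G) : ∃ K : Subgroup G, IsComponent K := by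
  by_contra hno
  push Not at hno
  apply h
  rw [← SignalizersComponents.CharP.genFitting_eq_pCore_iff]
  have hl : layer G = ⊥ := by
    rw [eq_bot_iff, layer_le_iff]
    exact fun K hK => absurd hK (hno K)
  unfold generalizedFittingSubgroup
  rw [hl, bot_sup_eq]
  apply le_antisymm
  · rw [Lib.Cores.fittingSubgroup_eq_iSup_pCore]
    refine iSup_le ?_
    rintro ⟨q, hq⟩
    by_cases hqp : q = p
    · subst hqp; exact le_rfl
    · have h1 : pCore q G ≤ pPrimeCore p G := by
        refine Lib.Cores.le_pPrimeCore inferInstance ?_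
        haveI : Fact q.Prime := ⟨hq⟩
        obtain ⟨n, hn⟩ := (IsPGroup.iff_card (p := q)).1 (Lib.Cores.pCore_isPGroup (G := G) q)
        rw [hn]
        exact Nat.Coprime.pow_left n ((Nat.coprime_primes hq hp.out).2 hqp)
      rw [hO] at h1
      exact h1.trans bot_le
  · exact Lib.Cores.pCore_le_fittingSubgroup p

/-- a component gives a second block -/
theorem NB.of_isComponent {n : ℕ} (ih : IH p n) (hn : Nat.card G < n) {K : Subgroup G}
    (hK : IsComponent K) : NB p G := by
  have hs : IsSimpleGroup (K ⧸ center K) := hK.2.2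
  have hna : ¬ IsMulCommutative (K ⧸ center K) := by
    intro hc
    have hsol : Group.IsSolvable (K ⧸ center K) := by
      have := hc
      exact Group.isSolvable_of_comm fun a b => hc.is_comm.comm a b
    apply quasisimple_not_isSolvable hK.2
    have hcs : Group.IsSolvable (center K) := Group.isSolvable_of_comm fun a b =>
      Subtype.ext ((mem_center_iff.1 a.2 b).symm)
    exact Group.isSolvable_of_ker_le_range (center K).subtype (QuotientGroup.mk' (center K)) (by simp)
  have hlt : Nat.card (K ⧸ center K) < n := by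
    refine lt_of_le_of_lt ?_ hn
    exact (Nat.card_le_card_of_surjective _ (QuotientGroup.mk'_surjective (center K))).trans
      (card_le_card_group K)
  have h1 : NB p (K ⧸ center K) := ih.use hna hlt
  refine NB.of_component (⊥ : Subgroup G) (IsPGroup.of_bot) K ?_ ?_ (QuotientGroup.mk' (center K))
    (QuotientGroup.mk'_surjective _) (by rw [QuotientGroup.ker_mk']) h1
  · intro k _
    rw [mem_centralizer_iff]
    intro x hx
    rw [SetLike.mem_coe, mem_bot] at hx
    rw [hx, one_mul, mul_one]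
  · intro c _
    have h2 := isComponent_conj c hK
    by_cases he : K.map (MulAut.conj c).toMonoidHom = K
    · left
      intro k hk
      rw [← he]
      exact ⟨k, hk, rfl⟩
    · right
      intro k hk l hl
      have h3 := component_le_centralizer_of_ne h2 hK he
      have h4 : c * k * c⁻¹ ∈ centralizer (K : Set G) := h3 ⟨k, hk, rfl⟩
      exact (mem_centralizer_iff.1 h4 l hl).symm

/-- **a group which is not of characteristic `p` has a second block** -/
theorem NB.of_not_charP {n : ℕ} (ih : IH p n) (hn : Nat.card G < n)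
    (h : ¬ centralizer (pCore p G : Set G) ≤ pCore p G) : NB p G := by
  by_cases hO : pPrimeCore p G = ⊥
  · obtain ⟨K, hK⟩ := exists_component hO h
    exact NB.of_isComponent ih hn hK
  · have hnn : (pPrimeCore p G).Normal := Lib.Cores.pPrimeCore_normal p
    refine NB.of_pprime_normal (pPrimeCore p G) ?_ hO
    exact fun h => (Nat.Prime.coprime_iff_not_dvd hp.out).1
      (Lib.Cores.pPrimeCore_coprime (G := G) p).symm h

variable [IsSimpleGroup G]

/-- **One block implies characteristic `p` type.** -/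
theorem NB.or_charP (hna : ¬ IsMulCommutative G) (ih : IH p (Nat.card G)) (Q : Subgroup G)
    (hQ : IsPGroup p Q) (hQ1 : Q ≠ ⊥) : NB p G ∨ ∃ R : Subgroup G, IsPGroup p R ∧
      R ≤ centralizer (Q : Set G) ∧ (∀ z ∈ Q, z ∈ centralizer (Q : Set G) → z ∈ R) ∧
      (∀ c ∈ centralizer (Q : Set G), ∀ z ∈ R, c * z * c⁻¹ ∈ R) ∧
      (∀ y ∈ centralizer (Q : Set G), (∀ z ∈ R, y * z = z * y) → y ∈ R) := by
  set C := centralizer (Q : Set G) with hC
  have hCt : C ≠ ⊤ := by
    intro hCt
    have h1 : Q ≤ center G := by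
      intro z hz
      rw [mem_center_iff]
      intro g
      have hg : g ∈ C := by rw [hCt]; exact mem_top g
      exact (mem_centralizer_iff.1 hg z hz).symm
    rcases (inferInstance : (center G).Normal).eq_bot_or_eq_top with h2 | h2
    · rw [h2, le_bot_iff] at h1
      exact hQ1 h1
    · apply hna
      exact ⟨⟨fun a b => (mem_center_iff.1 (by rw [h2]; exact mem_top b) a)⟩⟩
  have hlt : Nat.card C < Nat.card G := by
    have h1 : C < ⊤ := lt_top_iff_ne_top.2 hCt
    have h2 := Set.ncard_lt_ncard (s := (C : Set G)) (t := (⊤ : Subgroup G)) h1 (Set.toFinite _)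
    rw [← Nat.card_coe_set_eq, ← Nat.card_coe_set_eq] at h2
    calc Nat.card C < Nat.card (⊤ : Subgroup G) := h2
      _ = Nat.card G := card_top
  by_cases hcp : centralizer (pCore p C : Set C) ≤ pCore p C
  swap
  · exact Or.inl (NB.of_centralizer Q hQ (NB.of_not_charP ih hlt hcp))
  right
  have hn := Lib.Cores.pCore_normal (G := C) p
  refine ⟨(pCore p C).map C.subtype, (Lib.Cores.pCore_isPGroup (G := C) p).map _, map_subtype_le _,
    ?_, ?_, ?_⟩
  · intro z hzQ hzC
    refine ⟨⟨z, hzC⟩, ?_, rfl⟩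
    have hnz : (Q.subgroupOf C).Normal := by
      constructor
      intro a ha c
      rw [mem_subgroupOf] at ha ⊢
      have h1 : (c : G) * a * (c : G)⁻¹ = a := by
        have := mem_centralizer_iff.1 c.2 a ha
        rw [← this, mul_inv_cancel_right]
      show (c : G) * a * (c : G)⁻¹ ∈ Q
      rw [h1]
      exact ha
    have h1 : Q.subgroupOf C ≤ pCore p C := by
      refine Lib.Cores.le_pCore hnz ?_
      exact hQ.comap_of_injective C.subtype C.subtype_injective
    exact h1 (mem_subgroupOf.2 hzQ)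
  · rintro c hc _ ⟨z, hz, rfl⟩
    exact ⟨_, hn.conj_mem z hz ⟨c, hc⟩, rfl⟩
  · intro y hy h
    refine ⟨⟨y, hy⟩, hcp ?_, rfl⟩
    rw [mem_centralizer_iff]
    intro z hz
    exact Subtype.ext (h z ⟨z, hz, rfl⟩).symm

/-- an element of `C(Q)` which is not a `p`-element and centralizes the normal `p`-subgroups of `C(Q)` -/
theorem NB.of_fix (hna : ¬ IsMulCommutative G) (ih : IH p (Nat.card G)) (Q : Subgroup G)
    (hQ : IsPGroup p Q) (hQ1 : Q ≠ ⊥) {y : G} (hy : y ∈ centralizer (Q : Set G))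
    (hyp : ∀ k : ℕ, y ^ p ^ k ≠ 1)
    (h : ∀ R : Subgroup G, IsPGroup p R → R ≤ centralizer (Q : Set G) →
      (∀ z ∈ Q, z ∈ centralizer (Q : Set G) → z ∈ R) →
      (∀ c ∈ centralizer (Q : Set G), ∀ z ∈ R, c * z * c⁻¹ ∈ R) → ∀ z ∈ R, y * z = z * y) :
    NB p G := by
  rcases NB.or_charP hna ih Q hQ hQ1 with h1 | ⟨R, hR, hRC, hQR, hRn, hRf⟩
  · exact h1
  · exfalso
    have h2 := hRf y hy (h R hR hRC hQR hRn)
    obtain ⟨k, hk⟩ := hR ⟨y, h2⟩
    exact hyp k (congrArg Subtype.val hk)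

/-- **numerical criterion**: `y` of prime order `r` acting on a `p`-group `R`: centralizes it or
`r ∣ p ^ i - 1` for some `i > 0` with `p ^ i * |C_R(y)| = |R|`. -/
theorem act_num {H : Type*} [Group H] [Finite H] {p r : ℕ} [hp : Fact p.Prime] (hr : r.Prime)
    (hpr : p ≠ r) {y : H} (hy : orderOf y = r) {R : Subgroup H} (hR : IsPGroup p R)
    (hRn : ∀ z ∈ R, y * z * y⁻¹ ∈ R) :
    (∀ z ∈ R, y * z = z * y) ∨ ∃ i : ℕ, 0 < i ∧ r ∣ p ^ i - 1 ∧
      p ^ i * Nat.card ↥(R ⊓ centralizer ({y} : Set H)) = Nat.card R := by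
  classical
  have : Fact r.Prime := ⟨hr⟩
  obtain ⟨k, hk⟩ := IsPGroup.iff_card.1 hR
  have hzn : ∀ w ∈ zpowers y, ∀ z ∈ R, w * z * w⁻¹ ∈ R := by
    have h1 : y ∈ normalizer (R : Set H) := by
      have hm : R.map (MulAut.conj y).toMonoidHom = R := by
        refine eq_of_le_of_card_ge ?_ ?_
        · rintro _ ⟨z, hz, rfl⟩
          exact hRn z hz
        · rw [card_map_of_injective (MulAut.conj y).injective]
      rw [mem_normalizer_iff]
      intro z
      refine ⟨hRn z, fun hz => ?_⟩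
      rw [← hm] at hz
      obtain ⟨w, hw, hwz⟩ := hz
      have : w = z := (MulAut.conj y).injective hwz
      rwa [← this]
    intro w hw z hz
    have h2 : zpowers y ≤ normalizer (R : Set H) := by rwa [zpowers_le]
    exact (mem_normalizer_iff.1 (h2 hw) z).1 hz
  let act : MulAction ↥(zpowers y) ↥R :=
    { smul := fun w z => ⟨(w : H) * z * (w : H)⁻¹, hzn w w.2 z z.2⟩
      one_smul := fun z => Subtype.ext (by
        show ((1 : ↥(zpowers y)) : H) * z * ((1 : ↥(zpowers y)) : H)⁻¹ = z; simp)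
      mul_smul := fun w w' z => Subtype.ext (by
        show ((w * w' : ↥(zpowers y)) : H) * z * ((w * w' : ↥(zpowers y)) : H)⁻¹ =
          (w : H) * ((w' : H) * z * (w' : H)⁻¹) * (w : H)⁻¹
        simp [mul_assoc]) }
  have hsm : ∀ (w : ↥(zpowers y)) (z : ↥R), ((w • z : ↥R) : H) = (w : H) * z * (w : H)⁻¹ :=
    fun _ _ => rfl
  have hlg : IsPGroup r ↥(zpowers y) :=
    IsPGroup.of_card (n := 1) (by rw [Nat.card_zpowers, hy, pow_one])
  have h1 := hlg.card_modEq_card_fixedPoints (↥R)
  set C : Subgroup H := R ⊓ centralizer ({y} : Set H) with hC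
  have h2 : Nat.card (MulAction.fixedPoints ↥(zpowers y) ↥R) = Nat.card C := by
    refine Nat.card_congr ⟨fun z => ⟨((z : ↥R) : H), (z : ↥R).2, ?_⟩, fun c => ⟨⟨c, c.2.1⟩, ?_⟩,
      fun _ => rfl, fun _ => rfl⟩
    · have h4 := congrArg Subtype.val (z.2 ⟨y, mem_zpowers y⟩)
      rw [hsm] at h4
      exact mem_centralizer_singleton_iff.2 (mul_inv_eq_iff_eq_mul.1 h4).symm
    · rintro ⟨w, i, rfl⟩
      apply Subtype.ext
      rw [hsm]
      show y ^ i * (c : H) * (y ^ i)⁻¹ = c
      have h5 : Commute y (c : H) := (mem_centralizer_singleton_iff.1 c.2.2).symm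
      rw [(h5.zpow_left i).eq, mul_inv_cancel_right]
  rw [h2, hk] at h1
  obtain ⟨j, hj⟩ := IsPGroup.iff_card.1 (hR.to_le (inf_le_left : C ≤ R))
  rw [hj] at h1
  have hjk : j ≤ k := by
    have h3 : p ^ j ∣ p ^ k := by rw [← hj, ← hk]; exact card_dvd_of_le inf_le_left
    exact (Nat.pow_dvd_pow_iff_le_right hp.out.one_lt).1 h3
  by_cases hjk' : j = k
  · left
    have h3 : C = R := eq_of_le_of_card_ge inf_le_left (by rw [hj, hk, hjk'])
    intro q hq
    rw [← h3] at hq
    exact (mem_centralizer_singleton_iff.1 hq.2).symm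
  · right
    refine ⟨k - j, by omega, ?_, ?_⟩
    · have h3 : r ∣ p ^ k - p ^ j :=
        (Nat.modEq_iff_dvd' (Nat.pow_le_pow_right hp.out.pos hjk)).1 h1.symm
      have h4 : p ^ k - p ^ j = p ^ j * (p ^ (k - j) - 1) := by
        rw [Nat.mul_sub, mul_one, ← pow_add, Nat.add_sub_cancel' hjk]
      rw [h4] at h3
      rcases hr.dvd_mul.1 h3 with h5 | h5
      · exact absurd ((Nat.prime_dvd_prime_iff_eq hr hp.out).1 (hr.dvd_of_dvd_pow h5)).symm hpr
      · exact h5
    · rw [hj, hk, ← pow_add, Nat.sub_add_cancel hjk]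

theorem not_pow_of_order {H : Type*} [Group H] {p r : ℕ} [hp : Fact p.Prime] (hr : r.Prime)
    (hpr : p ≠ r) {y : H} (hy : orderOf y = r) (k : ℕ) : y ^ p ^ k ≠ 1 := by
  intro h
  have h1 : r ∣ p ^ k := by rw [← hy]; exact orderOf_dvd_of_pow_eq_one h
  exact hpr ((Nat.prime_dvd_prime_iff_eq hr hp.out).1 (hr.dvd_of_dvd_pow h1)).symm

/-- `y ∈ C(Q)` of prime order `r`; no `i > 0` with `r ∣ p ^ i - 1` and
`p ^ i * |C_R(y)| = |R|`, `R` normal `p`-subgroup of `C(Q)` -/
theorem NB.of_order (hna : ¬ IsMulCommutative G) (ih : IH p (Nat.card G)) (Q : Subgroup G)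
    (hQ : IsPGroup p Q) (hQ1 : Q ≠ ⊥) {y : G} (hy : y ∈ centralizer (Q : Set G)) {r : ℕ}
    (hr : r.Prime) (hpr : p ≠ r) (hyr : orderOf y = r)
    (h : ∀ (R : Subgroup G) (i : ℕ), IsPGroup p R → R ≤ centralizer (Q : Set G) →
      (∀ z ∈ Q, z ∈ centralizer (Q : Set G) → z ∈ R) →
      (∀ c ∈ centralizer (Q : Set G), ∀ z ∈ R, c * z * c⁻¹ ∈ R) → 0 < i → r ∣ p ^ i - 1 →
      p ^ i * Nat.card ↥(R ⊓ centralizer ({y} : Set G)) = Nat.card R → False) : NB p G := by
  refine NB.of_fix hna ih Q hQ hQ1 hy (not_pow_of_order hr hpr hyr) ?_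
  intro R hR hRC hQR hRn
  rcases act_num hr hpr hyr hR (fun z hz => hRn y hy z hz) with h1 | ⟨i, hi, h1, h2⟩
  · exact h1
  · exact (h R i hR hRC hQR hRn hi h1 h2).elim

/-- a normal `p`-subgroup of `C(Q)` meets a subgroup without normal `p`-subgroups trivially -/
theorem card_mul_dvd {C L R : Subgroup G} (hR : IsPGroup p R) (hLC : L ≤ C)
    (hRn : ∀ c ∈ C, ∀ z ∈ R, c * z * c⁻¹ ∈ R) (hL : pCore p L = ⊥) :
    Nat.card R * Nat.card L ∣ Nat.card G := by
  have hinf : R ⊓ L = ⊥ := by
    have hn : (R.subgroupOf L).Normal := by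
      constructor
      intro z hz c
      rw [mem_subgroupOf] at hz ⊢
      exact hRn c (hLC c.2) z hz
    have h1 : R.subgroupOf L ≤ pCore p L :=
      Lib.Cores.le_pCore hn (hR.comap_of_injective L.subtype L.subtype_injective)
    rw [hL, le_bot_iff, subgroupOf_eq_bot] at h1
    exact h1.eq_bot
  have hLN : L ≤ normalizer (R : Set G) := by
    intro c hc
    rw [mem_normalizer_iff]
    intro z
    refine ⟨hRn c (hLC hc) z, fun hz => ?_⟩
    have := hRn c⁻¹ (inv_mem (hLC hc)) _ hz
    rwa [show c⁻¹ * (c * z * c⁻¹) * c⁻¹⁻¹ = z by group] at this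
  have h1 : Nat.card ↥(R ⊔ L) = Nat.card R * Nat.card L := by
    have h2 := Cfsg.Agent.Lib.ProductSet.card_mul_card_inf R L
    rw [hinf, card_bot, mul_one, ← coe_mul_of_right_le_normalizer_left R L hLN] at h2
    exact h2
  rw [← h1]
  exact card_subgroup_dvd_card _

end

/-- a simple group of order divisible by a prime `r ≠ p` has `O_p = 1` -/
theorem pCore_eq_bot_of_simple {L : Type*} [Group L] [Finite L] [IsSimpleGroup L] {p r : ℕ}
    [hp : Fact p.Prime] (hr : r.Prime) (hpr : p ≠ r) (h : r ∣ Nat.card L) : pCore p L = ⊥ := by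
  have hn := Lib.Cores.pCore_normal (G := L) p
  rcases hn.eq_bot_or_eq_top with h1 | h1
  · exact h1
  · exfalso
    rw [Lib.Cores.pCore_eq_top_iff] at h1
    have : Fact r.Prime := ⟨hr⟩
    obtain ⟨y, hy⟩ := exists_prime_orderOf_dvd_card' r h
    obtain ⟨k, hk⟩ := h1 y
    exact not_pow_of_order hr hpr hy k hk

section

variable {p : ℕ} [hp : Fact p.Prime] {G : Type*} [Group G] [Finite G] [IsSimpleGroup G]

/-- `L` commutes with `x` of order `p`, `O_p(L) = 1`, `y` of prime order `r` commutes with `x`;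
`p ^ (B + 2) * |L| ∤ |G|` and `r ∤ p ^ i - 1` for `1 ≤ i ≤ B`. -/
theorem NB.of_sub (hna : ¬ IsMulCommutative G) (ih : IH p (Nat.card G)) {x y : G}
    (hx : orderOf x = p) {r : ℕ} (hr : r.Prime) (hpr : p ≠ r) (hy : orderOf y = r)
    (hxy : x * y = y * x) (L : Subgroup G) (hLx : ∀ l ∈ L, x * l = l * x) (hL : pCore p L = ⊥)
    {N m : ℕ} (B : ℕ) (hN : Nat.card G = N) (hm : Nat.card L = m) (hB : ¬ p ^ (B + 2) * m ∣ N)
    (h : ∀ i ∈ Finset.Icc 1 B, ¬ r ∣ p ^ i - 1) : NB p G := by
  have hmemx : ∀ g : G, x * g = g * x → g ∈ centralizer ((zpowers x : Subgroup G) : Set G) := by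
    intro g hg
    rw [mem_centralizer_iff]
    rintro _ ⟨i, rfl⟩
    exact ((show Commute x g from hg).zpow_left i).eq
  have hx1 : x ≠ 1 := by
    rintro rfl
    rw [orderOf_one] at hx
    exact hp.out.one_lt.ne hx
  refine NB.of_order hna ih (zpowers x)
    (IsPGroup.of_card (n := 1) (by rw [Nat.card_zpowers, hx, pow_one]))
    (by rwa [Ne, zpowers_eq_bot]) (hmemx y hxy) hr hpr hy ?_
  intro R i hR hRC hQR hRn hi hri hcard
  have h1 : Nat.card R * Nat.card L ∣ Nat.card G :=
    card_mul_dvd (C := centralizer ((zpowers x : Subgroup G) : Set G)) hR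
      (fun l hl => hmemx l (hLx l hl)) hRn hL
  have h2 : p ∣ Nat.card ↥(R ⊓ centralizer ({y} : Set G)) := by
    have hxR : x ∈ R := hQR x (mem_zpowers x) (hmemx x rfl)
    have h3 : zpowers x ≤ R ⊓ centralizer ({y} : Set G) := by
      rw [zpowers_le]
      exact ⟨hxR, mem_centralizer_singleton_iff.2 hxy⟩
    have h4 := card_dvd_of_le h3
    rwa [Nat.card_zpowers, hx] at h4
  have h3 : p ^ (i + 1) * m ∣ N := by
    rw [← hm, ← hN]
    refine dvd_trans (mul_dvd_mul_right ?_ _) h1
    rw [← hcard, pow_succ]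
    exact mul_dvd_mul_left _ h2
  by_cases hiB : i ≤ B
  · exact h i (Finset.mem_Icc.2 ⟨hi, hiB⟩) hri
  · apply hB
    refine dvd_trans (mul_dvd_mul_right (pow_dvd_pow p ?_) m) h3
    omega

/-- a simple group `L` commuting with an element of order `p` of `G` -/
theorem NB.of_simple_hom (hna : ¬ IsMulCommutative G) (ih : IH p (Nat.card G)) {x : G}
    (hx : orderOf x = p) {L : Type*} [Group L] [IsSimpleGroup L] (f : L →* G)
    (hf : Function.Injective f) (hfx : ∀ l, x * f l = f l * x) {r N m : ℕ} (hr : r.Prime)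
    (hpr : p ≠ r) (B : ℕ) (hN : Nat.card G = N) (hm : Nat.card L = m) (hrm : r ∣ m)
    (hB : ¬ p ^ (B + 2) * m ∣ N) (h : ∀ i ∈ Finset.Icc 1 B, ¬ r ∣ p ^ i - 1) : NB p G := by
  have : Fact r.Prime := ⟨hr⟩
  have hfin : Finite L := Finite.of_injective f hf
  obtain ⟨y, hy⟩ := exists_prime_orderOf_dvd_card' (G := L) r (by rw [hm]; exact hrm)
  let e : L ≃* f.range := MonoidHom.ofInjective hf
  refine NB.of_sub hna ih hx hr hpr (y := f y) (by rw [orderOf_injective f hf, hy]) (hfx y)
    f.range ?_ ?_ B hN (by rw [← hm]; exact (Nat.card_congr e.toEquiv).symm) hB h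
  · rintro _ ⟨l, rfl⟩
    exact hfx l
  · rw [← Lib.Cores.map_equiv_pCore e p, pCore_eq_bot_of_simple hr hpr (by rw [hm]; exact hrm),
      Subgroup.map_bot]

/-- an alternating group of degree `a + p` in `G` -/
theorem NB.of_alternating (h2 : p ≠ 2) (hna : ¬ IsMulCommutative G) (ih : IH p (Nat.card G)) {a : ℕ}
    (ha : 5 ≤ a) (f : alternatingGroup (Fin (a + p)) →* G) (hf : Function.Injective f) {r N : ℕ}
    (hr : r.Prime) (hpr : p ≠ r) (hra : r ≤ a) (B : ℕ) (hN : Nat.card G = N)
    (hB : ¬ p ^ (B + 2) * (a.factorial / 2) ∣ N) (h : ∀ i ∈ Finset.Icc 1 B, ¬ r ∣ p ^ i - 1) :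
    NB p G := by
  let e : Equiv.Perm (Fin a ⊕ Fin p) ≃* Equiv.Perm (Fin (a + p)) := finSumFinEquiv.permCongrHom
  have hsign : ∀ (s : Equiv.Perm (Fin a)) (t : Equiv.Perm (Fin p)),
      Equiv.Perm.sign (e (Equiv.Perm.sumCongr s t)) = Equiv.Perm.sign s * Equiv.Perm.sign t := by
    intro s t
    have h1 : Equiv.Perm.sign (finSumFinEquiv.permCongr (Equiv.Perm.sumCongr s t)) =
      Equiv.Perm.sign (Equiv.Perm.sumCongr s t) := Equiv.Perm.sign_permCongr _ _
    show Equiv.Perm.sign (finSumFinEquiv.permCongr (Equiv.Perm.sumCongr s t)) = _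
    rw [h1, Equiv.Perm.sign_sumCongr]
  have hp2 : 2 ≤ p := hp.out.two_le
  have hrot : Equiv.Perm.sign (finRotate p) = 1 := by
    rw [sign_finRotate]
    have h3 : Even (p - 1) := by
      have := hp.out.eq_two_or_odd
      rcases this with h4 | h4
      · exact absurd h4 h2
      · rw [Nat.even_iff]; omega
    exact h3.neg_one_pow
  let x : alternatingGroup (Fin (a + p)) := ⟨e (Equiv.Perm.sumCongr 1 (finRotate p)), by
    rw [Equiv.Perm.mem_alternatingGroup, hsign, hrot, Equiv.Perm.sign_one, mul_one]⟩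
  have hx : orderOf x = p := by
    rw [← Subgroup.orderOf_coe]
    change orderOf (e (Equiv.Perm.sumCongr 1 (finRotate p))) = p
    rw [MulEquiv.orderOf_eq]
    have h3 : Equiv.Perm.sumCongr (1 : Equiv.Perm (Fin a)) (finRotate p) =
      Equiv.Perm.sumCongrHom (Fin a) (Fin p) (1, finRotate p) := rfl
    rw [h3, orderOf_injective _ Equiv.Perm.sumCongrHom_injective, Prod.orderOf_mk, orderOf_one]
    have h4 : orderOf (finRotate p) = p := by
      rw [← Equiv.Perm.lcm_cycleType, cycleType_finRotate_of_le hp2]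
      simp
    rw [h4, Nat.lcm_one_left]
  let g : alternatingGroup (Fin a) →* alternatingGroup (Fin (a + p)) :=
    { toFun := fun s => ⟨e (Equiv.Perm.sumCongr (s : Equiv.Perm (Fin a)) 1), by
        rw [Equiv.Perm.mem_alternatingGroup, hsign, Equiv.Perm.sign_one, mul_one]
        exact Equiv.Perm.mem_alternatingGroup.1 s.2⟩
      map_one' := Subtype.ext (by
        change e (Equiv.Perm.sumCongr (1 : Equiv.Perm (Fin a)) (1 : Equiv.Perm (Fin p))) = 1
        rw [Equiv.Perm.sumCongr_one, map_one])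
      map_mul' := fun s t => Subtype.ext (by
        change e (Equiv.Perm.sumCongr ((s : Equiv.Perm (Fin a)) * t) (1 : Equiv.Perm (Fin p))) =
          e (Equiv.Perm.sumCongr s 1) * e (Equiv.Perm.sumCongr t 1)
        rw [← map_mul, Equiv.Perm.sumCongr_mul, mul_one]) }
  have hg : Function.Injective g := by
    intro s t hst
    have h3 : e (Equiv.Perm.sumCongr (s : Equiv.Perm (Fin a)) 1) =
      e (Equiv.Perm.sumCongr (t : Equiv.Perm (Fin a)) 1) := congrArg Subtype.val hst
    have h4 := e.injective h3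
    have h5 : Equiv.Perm.sumCongrHom (Fin a) (Fin p) ((s : Equiv.Perm (Fin a)), 1) =
      Equiv.Perm.sumCongrHom (Fin a) (Fin p) ((t : Equiv.Perm (Fin a)), 1) := h4
    have h6 := Equiv.Perm.sumCongrHom_injective h5
    exact Subtype.ext (Prod.mk.inj h6).1
  have hsim : IsSimpleGroup (alternatingGroup (Fin a)) := alternatingGroup.isSimpleGroup (by simpa using ha)
  have hcard : Nat.card (alternatingGroup (Fin a)) = a.factorial / 2 := by
    have : Nontrivial (Fin a) := Fin.nontrivial_iff_two_le.2 (by omega)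
    rw [nat_card_alternatingGroup, Nat.card_eq_fintype_card, Fintype.card_fin]
  have hr2 : r ∣ a.factorial / 2 := by
    rcases hr.eq_two_or_odd' with h3 | h3
    · subst h3
      have h4 : 2 * 2 ∣ a.factorial := dvd_trans (by decide) (Nat.factorial_dvd_factorial (show 4 ≤ a by omega))
      exact Nat.dvd_div_of_mul_dvd h4
    · have h4 : r ∣ a.factorial := (Nat.Prime.dvd_factorial hr).2 hra
      have h5 : 2 ∣ a.factorial := Nat.dvd_factorial (by norm_num) (by omega)
      have h6 : Nat.Coprime 2 r := (Nat.coprime_two_left).2 h3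
      exact Nat.dvd_div_of_mul_dvd (h6.mul_dvd_of_dvd_of_dvd h5 h4)
  refine NB.of_simple_hom hna ih (x := f x) (by rw [orderOf_injective f hf, hx]) (f.comp g)
    (hf.comp hg) ?_ hr hpr B hN hcard hr2 hB h
  intro s
  change f x * f (g s) = f (g s) * f x
  rw [← map_mul, ← map_mul]
  congr 1
  apply Subtype.ext
  change e (Equiv.Perm.sumCongr 1 (finRotate p)) * e (Equiv.Perm.sumCongr (s : Equiv.Perm (Fin a)) 1) =
    e (Equiv.Perm.sumCongr (s : Equiv.Perm (Fin a)) 1) * e (Equiv.Perm.sumCongr 1 (finRotate p))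
  rw [← map_mul, ← map_mul, Equiv.Perm.sumCongr_mul, Equiv.Perm.sumCongr_mul, one_mul, mul_one, one_mul, mul_one]

end

end Cfsg.Agent.H94.NBC
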